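import Groth.Agent.L08.Borel.SelfCentral
import Groth.Agent.L08.Borel.MaxTorusNonsmooth
import Groth.Agent.L08.Borel.MaxToriConj
import Groth.Agent.L08.Borel.Weyl
import Groth.Agent.L08.Borel.CartanTorus

/-!
# Unipotent rank zero
-/

set_option autoImplicit false
set_option backward.isDefEq.respectTransparency.types false
set_option linter.style.haveILetI false
universe u

open CategoryTheory CategoryTheory.Limits MonoidalCategory CartesianMonoidalCategory MonObj AlgebraicGeometry

noncomputable section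

namespace Groth.L08.TorusWeights

variable {S : Scheme.{u}} {G : Over S} [GrpObj G]

/-- over an algebraically closed field self-centralisation of one maximal torus gives it for all -/
theorem selfCentral_all {k : Type u} [Field k] [IsAlgClosed k] {G T T' : Over (Spec (CommRingCat.of k))} [GrpObj G]
    [GrpObj T] [GrpObj T'] [Smooth G.hom] [QuasiCompact G.hom] {i : T ⟶ G} {i' : T' ⟶ G} (hi : AGF.IsMaxTorus i)
    (hi' : AGF.IsMaxTorus i') (hc : Red.IsCentralizerOf i i) : Red.IsCentralizerOf i' i' := by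
  haveI := hi.1; haveI := hi.2.1; haveI := hi'.1; haveI := hi'.2.1
  obtain ⟨g, f, hf⟩ := Borel.exists_maxTorus_conj_any hi hi'
  obtain ⟨σ, hσ⟩ := Borel.exists_conjIso (G := G) g
  haveI : IsMonHom σ.hom := Groth.L25.Bridge.isMonHom_of_mul _ fun X x y => by
    rw [hσ, hσ, hσ]
    simp only [AGF.conjBy]
    group
  have e : f.symm.hom ≫ i ≫ σ.hom = i' := by rw [hσ, ← hf, Iso.symm_hom, Iso.inv_hom_id_assoc]
  exact Borel.isCentralizerOf_transport σ f.symm e f.symm e hc

variable [Smooth G.hom] [IsAffineHom G.hom]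

/-- **unipotent rank zero is stable under base change** -/
theorem unipotentRankZero_bc {P : Scheme.{u}} (e : P ⟶ S) (h0 : SGA3x.UnipotentRankZero G) :
    SGA3x.UnipotentRankZero (Red.bc e G) := by
  intro p T _ i hi
  obtain ⟨θ, hθ⟩ := Borel.exists_geomPt_map e p
  haveI : LocallyOfFiniteType G.hom := inferInstance
  haveI : QuasiCompact G.hom := inferInstance
  obtain ⟨m, hm⟩ := Borel.exists_redRank (G := G) (e p)
  obtain ⟨T₀, gT₀, i₀, h₀, -⟩ := Borel.hasRedRank_iff.1 hm
  have hc₀ : Red.IsCentralizerOf i₀ i₀ := h0 (e p) T₀ i₀ (Borel.isMaximalTorus_of_isMaxTorus h₀)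
  haveI : Smooth (Red.geomFibre (e p) G).hom := inferInstanceAs (Smooth (pullback.snd G.hom (Red.geomPt (e p))))
  haveI : QuasiCompact (Red.geomFibre (e p) G).hom :=
    inferInstanceAs (QuasiCompact (pullback.snd G.hom (Red.geomPt (e p))))
  have hiθ := Borel.isMaxTorus_bc_field h₀ θ
  haveI := hiθ.1; haveI := hiθ.2.1
  haveI : IsMonHom (Borel.fibreIso e θ hθ G).symm.hom := (Borel.isMonHom_fibreIso e θ hθ G).2
  haveI : Smooth (Red.bc e G).hom := inferInstanceAs (Smooth (pullback.snd G.hom e))
  haveI : QuasiCompact (Red.bc e G).hom := inferInstanceAs (QuasiCompact (pullback.snd G.hom e))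
  haveI : Smooth (Red.geomFibre p (Red.bc e G)).hom :=
    inferInstanceAs (Smooth (pullback.snd (Red.bc e G).hom (Red.geomPt p)))
  haveI : QuasiCompact (Red.geomFibre p (Red.bc e G)).hom :=
    inferInstanceAs (QuasiCompact (pullback.snd (Red.bc e G).hom (Red.geomPt p)))
  let i₁ := (Over.pullback θ).map i₀ ≫ (Borel.fibreIso e θ hθ G).symm.hom
  haveI : IsMonHom i₁ := inferInstanceAs (IsMonHom (_ ≫ _))
  refine selfCentral_all (Borel.isMaxTorus_comp_iso hiθ (Borel.fibreIso e θ hθ G).symm)
    (Borel.isMaxTorus_of_isMaximalTorus hi) ?_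
  exact Borel.isCentralizerOf_transport (Borel.fibreIso e θ hθ G).symm (Iso.refl _) (Category.id_comp _)
    (Iso.refl _) (Category.id_comp _) (Borel.isCentralizerOf_bc θ hc₀)

/-- **unipotent rank zero forces locally constant reductive rank** -/
theorem redRankLocallyConstant_of_urz (hconn : ∀ s : S, _root_.IsConnected (G.hom.base ⁻¹' {s}))
    (h0 : SGA3x.UnipotentRankZero G) : SGA3x.RedRankLocallyConstant G := by
  intro s
  obtain ⟨B, _, v, hv, hs, T, gT, i, hi, r, hr, hrk⟩ := Borel.exists_split_maxTorus_nhd hconn s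
    fun T _ i hi X g hg => by
      obtain ⟨t, ht⟩ := ((h0 s T i hi).2.2 X g).2 hg
      exact ⟨t, ht.symm⟩
  haveI := hv
  refine ⟨⟨Set.range v.base, v.isOpenMap.isOpen_range⟩, hs, (r : ℕ), ?_⟩
  rintro t ⟨p, rfl⟩
  exact hrk p

end Groth.L08.TorusWeights
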