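import Groth.Agent.L14.Luna.Cartan
import Groth.Agent.L14.RankOne.Centralizer
import Groth.Agent.L08.Borel.IsoBase
import Groth.Agent.L08.Borel.CartanTorus
import Groth.Agent.L08.TorusWeights.URZ

/-!
# Reductive groups have unipotent rank zero
-/

set_option autoImplicit false
set_option backward.isDefEq.respectTransparency.types false
set_option linter.style.haveILetI false
universe u

open CategoryTheory CategoryTheory.Limits MonoidalCategory CartesianMonoidalCategory MonObj GrpObj AlgebraicGeometry

noncomputable section

namespace Groth.L08.TorusWeights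

/-- over an algebraically closed field a maximal torus of a reductive group is its own centralizer -/
theorem selfCentral_of_reductiveOver {k : Type u} [Field k] [IsAlgClosed k]
    {G T : Over (Spec (CommRingCat.of k))} [GrpObj G] [GrpObj T] (hG : Red.IsReductiveOver k G) {i : T ⟶ G}
    (hi : AGF.IsMaxTorus i) : Red.IsCentralizerOf i i := by
  haveI := hG.1; haveI := hG.2.1; haveI := hG.2.2.1
  haveI := hi.1; haveI := hi.2.1
  haveI : QuasiCompact G.hom := quasiCompact_of_compactSpace _
  obtain ⟨C, gC, c, hc, -, -, -⟩ := Borel.exists_centralizer_gen i hi.2.2.1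
  haveI := hc.1; haveI := hc.2.1
  obtain ⟨-, -, -, -, hcomm⟩ := Borel.torus_props hi.2.2.1
  obtain ⟨t, ht⟩ := (hc.2.2 T i).2 fun X' x h => by rw [← MonObj.mul_comp, ← MonObj.mul_comp, hcomm]
  haveI : IsIso t := Groth.L14.Luna.isIso_of_centralizer_maxTorus hG hi hc t ht
  haveI : IsMonHom (Iso.refl G).hom := inferInstanceAs (IsMonHom (𝟙 G))
  exact Borel.isCentralizerOf_transport (Iso.refl G) (Iso.refl T) (by simp) (asIso t)
    (by simp [ht]) hc

variable {S : Scheme.{u}} {G : Over S} [GrpObj G]

/-- **reductive groups have unipotent rank zero** -/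
theorem unipotentRankZero_of_isReductive (hG : Red.IsReductive G) : SGA3x.UnipotentRankZero G :=
  fun s _ _ _ hi => selfCentral_of_reductiveOver (hG.2.2 s) (Borel.isMaxTorus_of_isMaximalTorus hi)

/-- the fibres of a reductive group are connected -/
theorem isConnected_of_isReductive (hG : Red.IsReductive G) (s : S) : _root_.IsConnected (G.hom.base ⁻¹' {s}) :=
  Groth.L14.RankOne.isConnected_fibre_of_reductive hG s

/-- reductive groups have locally constant reductive rank -/
theorem redRankLocallyConstant_of_isReductive (hG : Red.IsReductive G) : SGA3x.RedRankLocallyConstant G := by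
  haveI := hG.1; haveI := hG.2.1
  exact redRankLocallyConstant_of_urz (isConnected_of_isReductive hG) (unipotentRankZero_of_isReductive hG)

end Groth.L08.TorusWeights
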