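import Groth.Agent.L08.TorusWeights.Global
import Groth.Agent.L08.TorusWeights.URZ
import Groth.Agent.L08.Borel.SelfCentral
import Groth.Agent.L08.Borel.MaxTorusDesc
import Groth.Agent.L08.Borel.CartanTorus

/-!
# The centre in unipotent rank zero
-/

set_option autoImplicit false
set_option backward.isDefEq.respectTransparency.types false
set_option linter.style.haveILetI false
set_option linter.unusedSectionVars false
universe u

open CategoryTheory CategoryTheory.Limits MonoidalCategory CartesianMonoidalCategory MonObj GrpObj AlgebraicGeometry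
open TopologicalSpace (Opens)

noncomputable section

namespace Groth.L08.TorusWeights

open Groth.L25

variable {S : Scheme.{u}} {G : Over S} [GrpObj G]

/-- a point commuting with all points -/
def IsCentralPt {X : Over S} (g : X ⟶ G) : Prop :=
  ∀ (X' : Over S) (x : X' ⟶ X) (h : X' ⟶ G), (x ≫ g) * h = h * (x ≫ g)

theorem isCentralPt_comp {X Y : Over S} {g : X ⟶ G} (h : IsCentralPt g) (q : Y ⟶ X) : IsCentralPt (q ≫ g) :=
  fun X' x k => by rw [← Category.assoc]; exact h X' _ k

theorem isCentralPt_ofBase {S' : Scheme.{u}} (j : S' ⟶ S) {X : Over S'} {g : Over.mk (X.hom ≫ j) ⟶ G}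
    (h : IsCentralPt g) : IsCentralPt (NilAction.ofBase j g) := fun X' x k => by
  apply SplitSub.toBase_injective j
  rw [NilAction.toBase_mul, NilAction.toBase_mul]
  have e : NilAction.toBase j (x ≫ NilAction.ofBase j g) =
      (Over.homMk x.left (by show x.left ≫ X.hom ≫ j = X'.hom ≫ j; rw [Over.w_assoc]) :
        Over.mk (X'.hom ≫ j) ⟶ Over.mk (X.hom ≫ j)) ≫ g :=
    Over.OverMorphism.ext (by simp [NilAction.toBase, NilAction.ofBase, pullback.lift_fst])
  rw [e]
  exact h _ _ _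

theorem isCentralPt_comp_iso {G' : Over S} [GrpObj G'] (φ : G ≅ G') [IsMonHom φ.hom] {X : Over S} {g : X ⟶ G}
    (h : IsCentralPt g) : IsCentralPt (g ≫ φ.hom) := fun X' x k => by
  have e : k = (k ≫ φ.inv) ≫ φ.hom := by rw [Category.assoc, φ.inv_hom_id, Category.comp_id]
  rw [← Category.assoc, e, ← MonObj.mul_comp, ← MonObj.mul_comp, h]

section Weights

variable [IsAffine G.left] {M : Type} [AddCommGroup M] (i : Red.DS S M ⟶ G) [IsMonHom i]

/-- **a central point of the torus kills the weights** -/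
theorem kills_of_central {Y : Over S} [IsAffine Y.left] (τ : Y ⟶ Red.DS S M) (hτ : IsCentralPt (τ ≫ i))
    (g₀ : Y ⟶ G) (a : Γ(G.left, ⊤)) (m : Multiplicative M) :
    g₀.left.appTop.hom ((co i a).coeff m) * (DSPts.char τ m - 1) = 0 := by
  classical
  let A₀ := Γ(Y.left, ⊤)
  let C := MonoidAlgebra A₀ (Multiplicative M)
  let one' : CommRingCat.of A₀ ⟶ CommRingCat.of C :=
    CommRingCat.ofHom (MonoidAlgebra.singleOneRingHom : A₀ →+* C)
  let Y' : Over S := Over.mk (Spec.map one' ≫ Y.left.isoSpec.inv ≫ Y.hom)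
  let q : Y' ⟶ Y := Over.homMk (Spec.map one' ≫ Y.left.isoSpec.inv) (Category.assoc _ _ _)
  let γ : C →+* Γ(Y'.left, ⊤) := (Scheme.ΓSpecIso (CommRingCat.of C)).inv.hom
  have hγ : Function.Injective γ := ((Scheme.ΓSpecIso (CommRingCat.of C)).symm.commRingCatIsoToRingEquiv).injective
  let t : Y' ⟶ Red.DS S M := DSPts.pt (γ.toMonoidHom.comp (MonoidAlgebra.of A₀ _))
  have hq : ∀ x : Γ(Y.left, ⊤), q.left.appTop.hom x = γ (MonoidAlgebra.single 1 x) := fun x => by
    have h2 : q.left.appTop = one' ≫ (Scheme.ΓSpecIso (CommRingCat.of C)).inv := by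
      have e : (Spec.map one' ≫ Y.left.isoSpec.inv) ≫ Y.left.toSpecΓ = Spec.map one' := by
        rw [Category.assoc, show Y.left.isoSpec.inv ≫ Y.left.toSpecΓ = 𝟙 _ from Y.left.isoSpec.inv_hom_id]
        exact Category.comp_id _
      have e2 := congrArg Scheme.Hom.appTop e
      rw [Scheme.Hom.comp_appTop, Scheme.toSpecΓ_appTop] at e2
      rw [Scheme.ΓSpecIso_inv_naturality, ← cancel_epi (Scheme.ΓSpecIso (CommRingCat.of A₀)).hom, Iso.hom_inv_id_assoc]
      exact e2
    exact congrArg (fun f => f.hom x) h2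
  have key : ((t * (q ≫ τ)) ≫ i) * (q ≫ g₀) * ((t * (q ≫ τ)) ≫ i)⁻¹ = (t ≫ i) * (q ≫ g₀) * (t ≫ i)⁻¹ := by
    rw [MonObj.mul_comp, _root_.mul_inv_rev, Category.assoc,
      show (t ≫ i) * (q ≫ τ ≫ i) * (q ≫ g₀) = (t ≫ i) * (q ≫ g₀) * (q ≫ τ ≫ i) by
        rw [_root_.mul_assoc, _root_.mul_assoc, hτ Y' q (q ≫ g₀)]]
    group
  have h := congrArg (fun f => f.left.appTop.hom a) key
  simp only [conj_appTop, ev_eq_sum, DSPts.char_mul, MonoidHom.mul_apply, t, DSPts.char_pt, DSPts.char_comp] at h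
  simp only [Over.comp_left, Scheme.Hom.comp_appTop, CommRingCat.comp_apply, hq, RingHom.toMonoidHom_eq_coe,
    MonoidHom.coe_comp, MonoidHom.coe_coe, Function.comp_apply] at h
  simp only [Finsupp.sum] at h
  have h₂ : (∑ x ∈ (co i a).coeff.support,
      (MonoidAlgebra.single 1 (g₀.left.appTop.hom ((co i a).coeff x)) *
        (MonoidAlgebra.single x 1 * MonoidAlgebra.single 1 (DSPts.char τ x)) : MonoidAlgebra A₀ (Multiplicative M))) =
      ∑ x ∈ (co i a).coeff.support,
      (MonoidAlgebra.single 1 (g₀.left.appTop.hom ((co i a).coeff x)) * MonoidAlgebra.single x 1 : MonoidAlgebra A₀ (Multiplicative M)) := hγ (by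
    rw [map_sum, map_sum]
    refine ((Finset.sum_congr rfl fun x _ => ?_).trans h).trans (Finset.sum_congr rfl fun x _ => ?_)
    · rw [map_mul, map_mul]; rfl
    · rw [map_mul]; rfl)
  have e1 : ∀ (x : Multiplicative M) (b c : A₀),
      (MonoidAlgebra.single 1 b * (MonoidAlgebra.single x 1 * MonoidAlgebra.single 1 c) : MonoidAlgebra A₀ (Multiplicative M)) =
        MonoidAlgebra.single x (b * c) := by
    intro x b c; simp [MonoidAlgebra.single_mul_single]
  have e2 : ∀ (x : Multiplicative M) (b : A₀),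
      (MonoidAlgebra.single 1 b * MonoidAlgebra.single x 1 : MonoidAlgebra A₀ (Multiplicative M)) = MonoidAlgebra.single x b := by
    intro x b; simp [MonoidAlgebra.single_mul_single]
  rw [Finset.sum_congr rfl fun x _ => e1 x _ _, Finset.sum_congr rfl fun x _ => e2 x _] at h₂
  have h' := congrArg (fun x : MonoidAlgebra A₀ (Multiplicative M) => x.coeff m) h₂
  simp only [MonoidAlgebra.coeff_sum, Finsupp.coe_finsetSum, Finset.sum_apply, MonoidAlgebra.coeff_single,
    Finsupp.single_apply] at h'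
  rw [Finset.sum_eq_single m, Finset.sum_eq_single m] at h'
  · rw [if_pos rfl, if_pos rfl] at h'
    rw [mul_sub, _root_.mul_one, h', sub_self]
  · intro x _ hx
    rw [if_neg hx]
  · intro hx
    simp [Finsupp.notMem_support_iff.1 hx]
  · intro x _ hx
    rw [if_neg hx]
  · intro hx
    simp [Finsupp.notMem_support_iff.1 hx]

/-- **a central point of the torus lies in the kernel of the weights** -/
theorem char_eq_one [Smooth G.hom] {X : Over S} (τ : X ⟶ Red.DS S M) (hτ : IsCentralPt (τ ≫ i)) (m : M)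
    (hm : ∀ p : X.left, ∃ (a : Γ(G.left, ⊤)) (x : G.left), G.hom x = X.hom p ∧
      x ∈ G.left.basicOpen ((co i a).coeff (Multiplicative.ofAdd m))) :
    DSPts.char τ (Multiplicative.ofAdd m) = 1 := by
  classical
  choose a x hx hxc using hm
  -- the auxiliary character
  let h : X ⟶ Red.DS S ℤ := τ ≫ Red.DSmap S (zmultiplesHom M m)
  suffices hh : h = 1 by
    have e := congrArg (fun k => DSPts.char k (Multiplicative.ofAdd (1 : ℤ))) hh
    simp only [h, SplitSub.char_DSmap, DSPts.char_one, MonoidHom.one_apply] at e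
    simpa using e
  let W : (X ⊗ G).left.Opens := ⨆ p, (snd X G).left ⁻¹ᵁ G.left.basicOpen ((co i (a p)).coeff (Multiplicative.ofAdd m))
  let j : Over.mk (W.ι ≫ (X ⊗ G).hom) ⟶ X ⊗ G := Over.homMk W.ι
  let q : Over.mk (W.ι ≫ (X ⊗ G).hom) ⟶ X := j ≫ fst X G
  haveI : Smooth (fst X G).left := inferInstanceAs (Smooth (pullback.fst X.hom G.hom))
  haveI : Smooth q.left := inferInstanceAs (Smooth (W.ι ≫ (fst X G).left))
  haveI : Surjective q.left := ⟨fun p => by
    obtain ⟨z, hz1, hz2⟩ := Scheme.Pullback.exists_preimage_pullback (f := X.hom) (g := G.hom) p (x p) (hx p).symm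
    refine ⟨⟨z, Opens.mem_iSup.2 ⟨p, ?_⟩⟩, hz1⟩
    show pullback.snd X.hom G.hom z ∈ G.left.basicOpen _
    rw [hz2]
    exact hxc p⟩
  haveI : Flat q.left := inferInstance
  haveI : Epi q.left := Flat.epi_of_flat_of_surjective q.left
  haveI : Epi q := Over.epi_of_epi_left q
  rw [← cancel_epi q, MonObj.comp_one]
  refine Over.OverMorphism.ext (W.toScheme.affineCover.hom_ext _ _ fun k => ?_)
  let V : Over S := Over.mk (W.toScheme.affineCover.f k ≫ W.ι ≫ (X ⊗ G).hom)
  let v : V ⟶ Over.mk (W.ι ≫ (X ⊗ G).hom) := Over.homMk (W.toScheme.affineCover.f k)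
  show (v ≫ q ≫ h).left = (v ≫ 1).left
  rw [MonObj.comp_one]
  refine congrArg (fun f : V ⟶ Red.DS S ℤ => f.left) ?_
  haveI : IsAffine V.left := inferInstanceAs (IsAffine (W.toScheme.affineCover.X k))
  apply DSPts.char_injective
  have key : DSPts.char (v ≫ q ≫ τ) (Multiplicative.ofAdd m) = 1 := by
    let d := DSPts.char (v ≫ q ≫ τ) (Multiplicative.ofAdd m) - 1
    suffices hd : d = 0 from sub_eq_zero.1 hd
    refine TopCat.Sheaf.eq_of_locally_eq' V.left.sheaf
      (fun p => (v ≫ j ≫ snd X G).left ⁻¹ᵁ G.left.basicOpen ((co i (a p)).coeff (Multiplicative.ofAdd m))) ⊤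
      (fun p => homOfLE le_top) (fun z _ => ?_) d 0 fun p => ?_
    · obtain ⟨p, hp⟩ := Opens.mem_iSup.1 (W.toScheme.affineCover.f k z).2
      exact Opens.mem_iSup.2 ⟨p, hp⟩
    · have h0 := kills_of_central i (v ≫ q ≫ τ) (by
        rw [Category.assoc, Category.assoc, ← Category.assoc]; exact isCentralPt_comp hτ _) (v ≫ j ≫ snd X G) (a p)
        (Multiplicative.ofAdd m)
      let U := (v ≫ j ≫ snd X G).left ⁻¹ᵁ G.left.basicOpen ((co i (a p)).coeff (Multiplicative.ofAdd m))
      have hU : U = V.left.basicOpen ((v ≫ j ≫ snd X G).left.appTop.hom ((co i (a p)).coeff (Multiplicative.ofAdd m))) :=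
        Scheme.preimage_basicOpen_top _ _
      have hu : IsUnit ((V.left.presheaf.map (homOfLE (le_top : U ≤ ⊤)).op).hom
          ((v ≫ j ≫ snd X G).left.appTop.hom ((co i (a p)).coeff (Multiplicative.ofAdd m)))) := by
        have aux : ∀ (c : Γ(V.left, ⊤)) (U : V.left.Opens), U = V.left.basicOpen c →
            IsUnit ((V.left.presheaf.map (homOfLE (le_top : U ≤ ⊤)).op).hom c) := by
          rintro c U rfl
          exact V.left.toRingedSpace.isUnit_res_basicOpen c
        exact aux _ U hU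
      have h1 := congrArg (V.left.presheaf.map (homOfLE (le_top : U ≤ ⊤)).op).hom h0
      rw [map_mul, map_zero] at h1
      exact (hu.mul_right_eq_zero.1 h1).trans (map_zero _).symm
  refine MonoidHom.ext fun n => ?_
  rw [DSPts.char_one, MonoidHom.one_apply]
  simp only [h, ← Category.assoc, SplitSub.char_DSmap]
  simp only [Category.assoc]
  show DSPts.char (v ≫ q ≫ τ) (Multiplicative.ofAdd (Multiplicative.toAdd n • m)) = 1
  rw [ofAdd_zsmul]
  have hu : DSPts.char (v ≫ q ≫ τ) (Multiplicative.ofAdd m) ^ 1 = 1 := by rw [pow_one, key]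
  obtain ⟨e, he⟩ : ∃ e : Multiplicative M →* (Γ(V.left, ⊤))ˣ, (Units.coeHom _).comp e = DSPts.char (v ≫ q ≫ τ) :=
    ⟨(DSPts.char (v ≫ q ≫ τ)).toHomUnits, MonoidHom.ext fun _ => rfl⟩
  rw [← he] at key ⊢
  have he1 : e (Multiplicative.ofAdd m) = 1 := Units.ext key
  show ((e (Multiplicative.ofAdd m ^ Multiplicative.toAdd n) : (Γ(V.left, ⊤))ˣ) : Γ(V.left, ⊤)) = 1
  rw [map_zpow, he1, one_zpow, Units.val_one]

end Weights

/-- **over a base the self-centralising maximal torus is its own centraliser** -/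
theorem exists_fac_selfCentral [Smooth G.hom] [IsAffineHom G.hom] (h0 : SGA3x.UnipotentRankZero G) {T : Over S}
    [GrpObj T] {i : T ⟶ G} (hi : Red.IsMaximalTorus i) {X : Over S} (g : X ⟶ G)
    (hg : ∀ (X' : Over S) (x : X' ⟶ X) (t : X' ⟶ T), (x ≫ g) * (t ≫ i) = (t ≫ i) * (x ≫ g)) :
    ∃ τ : X ⟶ T, τ ≫ i = g := by
  haveI := hi.1; haveI := hi.2.1
  haveI : LocallyOfFiniteType G.hom := inferInstance
  haveI : QuasiCompact G.hom := inferInstance
  haveI : Smooth T.hom := Borel.smooth_of_isTorus hi.2.2.1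
  have hT := Locus.isMultTypeFT_of_isTorus hi.2.2.1
  obtain ⟨Z, gZ, z, hz, -, hZs⟩ := Locus.exists_smooth_centralizer (Locus.locally_of_multTypeFT hT) i
  haveI := hz.1; haveI := hz.2.1; haveI := hZs
  obtain ⟨t, ht⟩ := (hz.2.2 T i).2 fun X' x h => by
    rw [← MonObj.mul_comp, ← MonObj.mul_comp, Central.mul_comm_of_multTypeFT hT]
  haveI : IsMonHom t := Borel.isMonHom_lift_mono z i t ht
  haveI : Mono t := by haveI : Mono (t ≫ z) := ht.symm ▸ inferInstance; exact mono_of_mono t z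
  haveI : IsIso t := Borel.isIso_of_mono_hom t fun s => by
    haveI : Mono ((Over.pullback (Red.geomPt s)).map z) := Functor.map_mono _ _
    have hzs := Borel.isCentralizerOf_bc (Red.geomPt s) hz
    have hs : Red.IsCentralizerOf ((Over.pullback (Red.geomPt s)).map i) ((Over.pullback (Red.geomPt s)).map i) :=
      h0 s _ _ (Borel.isMaximalTorus_bc_fp hi (Red.geomPt s))
    obtain ⟨b, hb⟩ := (hs.2.2 _ ((Over.pullback (Red.geomPt s)).map z)).2
      ((hzs.2.2 _ ((Over.pullback (Red.geomPt s)).map z)).1 ⟨𝟙 _, Category.id_comp _⟩)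
    exact Borel.surjective_of_section _ b (by
      rw [← cancel_mono ((Over.pullback (Red.geomPt s)).map z), Category.assoc, ← Functor.map_comp, ht, hb,
        Category.id_comp])
  obtain ⟨w, hw⟩ := (hz.2.2 X g).2 hg
  exact ⟨w ≫ inv t, by rw [← ht, Category.assoc, IsIso.inv_hom_id_assoc, hw]⟩

/-- **near every point of a chart the centre is diagonalisable** -/
theorem exists_local_centre [Smooth G.hom] [IsAffineHom G.hom] [IsAffine S] [IsAffine G.left] {M : Type}
    [AddCommGroup M] (i : Red.DS S M ⟶ G) (hM : AddGroup.FG M)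
    (hconn : ∀ s : S, _root_.IsConnected (G.hom.base ⁻¹' {s})) (h0 : SGA3x.UnipotentRankZero G)
    (hi : Red.IsMaximalTorus i) (s : S) :
    ∃ (U : S.Opens) (_ : s ∈ U) (Z : Over U.toScheme) (_ : GrpObj Z) (z : Z ⟶ Red.bc U.ι G),
      IsMonHom z ∧ SGA3x.IsMultTypeFT Z ∧ IsCentralHom z ∧
      ∀ (X : Over U.toScheme) (g : Over.mk (X.hom ≫ U.ι) ⟶ G), IsCentralPt g →
        ∃ w : X ⟶ Z, w ≫ z = NilAction.ofBase U.ι g := by
  haveI := hi.1; haveI := hi.2.1
  obtain ⟨F, U, hsU, hO, r1, r2, r3, r4⟩ := exists_local_data i hM hconn hi s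
  refine ⟨U, hsU, _, inferInstance, _, r1, r3, r4, fun X g hg => ?_⟩
  obtain ⟨τ, hτ⟩ := exists_fac_selfCentral h0 hi g fun X' x t => hg X' x _
  have hker : ∀ m ∈ AddSubgroup.closure (↑F : Set M), DSPts.char τ (Multiplicative.ofAdd m) = 1 := by
    intro m hm
    induction hm using AddSubgroup.closure_induction with
    | mem m hm => exact char_eq_one i τ (hτ.symm ▸ hg) m fun p => hO _ (by
        show (X.hom ≫ U.ι) p ∈ U
        rw [Scheme.Hom.comp_apply]; exact (X.hom p).2) m hm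
    | zero => rw [ofAdd_zero, map_one]
    | add a b _ _ ha hb => rw [ofAdd_add, map_mul, ha, hb, _root_.one_mul]
    | neg a _ ha =>
      have e := congrArg (DSPts.char τ) (mul_inv_cancel (Multiplicative.ofAdd a))
      rw [map_mul, map_one, ha, _root_.one_mul] at e
      rwa [ofAdd_neg]
  let p := QuotientAddGroup.mk' (AddSubgroup.closure (↑F : Set M))
  let χ : Multiplicative (M ⧸ AddSubgroup.closure (↑F : Set M)) →* Γ((Over.mk (X.hom ≫ U.ι) : Over S).left, ⊤) :=
    (QuotientAddGroup.lift _ (MonoidHom.toAdditiveRight (DSPts.char τ)) fun m hm =>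
      congrArg Additive.ofMul (hker m hm)).toMultiplicativeLeft
  have hχ : DSPts.pt χ ≫ Red.DSmap S p = τ := by
    apply DSPts.char_injective
    rw [SplitSub.char_DSmap, DSPts.char_pt]
    exact MonoidHom.ext fun m => rfl
  refine ⟨NilAction.ofBase U.ι (DSPts.pt χ), ?_⟩
  rw [NilAction.ofBase_comp, ← Category.assoc (DSPts.pt χ), hχ, hτ]

set_option maxHeartbeats 1000000 in
/-- **central points lie in the reductive centre** -/
theorem exists_fac_centre [Smooth G.hom] [IsAffineHom G.hom]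
    (hconn : ∀ s : S, _root_.IsConnected (G.hom.base ⁻¹' {s})) (h0 : SGA3x.UnipotentRankZero G)
    (hr : SGA3x.RedRankLocallyConstant G) {Z : Over S} (z : Z ⟶ G) [Mono z]
    (huniv : ∀ (S' : Scheme.{u}) (f : S' ⟶ S) (H : Over S') [GrpObj H] (v : H ⟶ Red.bc f G) [IsMonHom v],
      SGA3x.IsMultTypeFT H → IsCentralHom v → ∃ w : H ⟶ Red.bc f Z, w ≫ (Over.pullback f).map z = v)
    {X : Over S} (g : X ⟶ G) (hg : IsCentralPt g) : ∃ w : X ⟶ Z, w ≫ z = g := by
  have key : ∀ p : X.left, ∃ (Y : Over S) (γ : Y ⟶ X), Etale γ.left ∧ p ∈ Set.range γ.left.base ∧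
      ∃ w : Y ⟶ Z, w ≫ z = γ ≫ g := by
    intro x
    obtain ⟨P, hP, e, p, M, _, i, he, hp, hM, hi⟩ := exists_chart_maxTorus hr (X.hom x)
    haveI := hP; haveI := he
    haveI : Smooth (Red.bc e G).hom := inferInstanceAs (Smooth (pullback.snd G.hom e))
    haveI : IsAffineHom (Red.bc e G).hom := MorphismProperty.pullback_snd (P := @IsAffineHom) G.hom e inferInstance
    haveI : IsAffine (Red.bc e G).left := isAffine_of_isAffineHom (Red.bc e G).hom
    obtain ⟨U, hpU, D, gD, d, d1, d2, d3, d4⟩ := exists_local_centre i hM (Extension.isConnected_fibre_bc e G hconn)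
      (unipotentRankZero_bc e h0) hi p
    haveI := d1
    let c := U.ι ≫ e
    let φ := ActBC.bcCompIso U.ι e G (rfl : U.ι ≫ e = c)
    obtain ⟨w₁, hw₁⟩ := huniv U.toScheme c D (d ≫ φ.hom) d2 (isCentralHom_comp d3 φ)
    let Q : Over U.toScheme := Over.mk (pullback.snd X.hom c)
    let g₁ : Over.mk ((Q.hom ≫ U.ι) ≫ e) ⟶ G := (Over.homMk (pullback.fst X.hom c) (by
      show pullback.fst X.hom c ≫ X.hom = (Q.hom ≫ U.ι) ≫ e
      rw [pullback.condition, Category.assoc]; rfl) : Over.mk ((Q.hom ≫ U.ι) ≫ e) ⟶ X) ≫ g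
    obtain ⟨w₂, hw₂⟩ := d4 Q (NilAction.ofBase e (X := G) (Y := Over.mk (Q.hom ≫ U.ι)) g₁)
      (isCentralPt_ofBase e (isCentralPt_comp hg _))
    let γ : Over.mk (Q.hom ≫ c) ⟶ X := Over.homMk (pullback.fst X.hom c) pullback.condition
    refine ⟨_, γ, inferInstanceAs (Etale (pullback.fst X.hom c)), ?_, NilAction.toBase c (w₂ ≫ w₁), ?_⟩
    · obtain ⟨y, hy, -⟩ := Scheme.Pullback.exists_preimage_pullback (f := X.hom) (g := c) x ⟨p, hpU⟩ hp.symm
      exact ⟨y, hy⟩
    · have h1 : (w₂ ≫ w₁) ≫ (Over.pullback c).map z =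
          NilAction.ofBase U.ι (NilAction.ofBase e (X := G) (Y := Over.mk (Q.hom ≫ U.ι)) g₁) ≫ φ.hom := by
        rw [Category.assoc, hw₁, ← Category.assoc, hw₂]
      rw [← SplitSub.toBase_map, h1]
      apply Over.OverMorphism.ext
      simp [NilAction.toBase, NilAction.ofBase, φ, g₁, γ]
      rw [show (ActBC.bcCompIso U.ι e G (rfl : U.ι ≫ e = c)).hom.left ≫ pullback.fst G.hom c = _ from
        ActBC.bcCompIso_hom_left_fst U.ι e G rfl]
      erw [pullback.lift_fst_assoc, pullback.lift_fst]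
  choose Y γ hγ hmem w hw using key
  let Y' : Over S := Over.mk (Sigma.desc fun p => (Y p).hom)
  let q : Y' ⟶ X := Over.homMk (Sigma.desc fun p => (γ p).left)
    (Sigma.hom_ext _ _ fun p => by
      show Sigma.ι (fun p => (Y p).left) p ≫ Sigma.desc _ ≫ X.hom = Sigma.ι (fun p => (Y p).left) p ≫ Sigma.desc _
      rw [Sigma.ι_desc_assoc, Sigma.ι_desc, Over.w])
  let f : Y' ⟶ Z := Over.homMk (Sigma.desc fun p => (w p).left)
    (Sigma.hom_ext _ _ fun p => by
      show Sigma.ι (fun p => (Y p).left) p ≫ Sigma.desc _ ≫ Z.hom = Sigma.ι (fun p => (Y p).left) p ≫ Sigma.desc _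
      rw [Sigma.ι_desc_assoc, Sigma.ι_desc, Over.w])
  haveI : Etale q.left := IsZariskiLocalAtSource.sigmaDesc (P := @Etale) hγ
  haveI : Surjective q.left := ⟨fun p => by
    obtain ⟨y, hy⟩ := hmem p
    refine ⟨Sigma.ι (fun p => (Y p).left) p y, ?_⟩
    show (Sigma.ι (fun p => (Y p).left) p ≫ Sigma.desc fun p => (γ p).left) y = p
    rw [Sigma.ι_desc]
    exact hy⟩
  have hfq : f ≫ z = q ≫ g := Over.OverMorphism.ext (Sigma.hom_ext _ _ fun p => by
    show Sigma.ι (fun p => (Y p).left) p ≫ Sigma.desc _ ≫ z.left = Sigma.ι (fun p => (Y p).left) p ≫ Sigma.desc _ ≫ g.left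
    rw [Sigma.ι_desc_assoc, Sigma.ι_desc_assoc, ← Over.comp_left, hw, Over.comp_left])
  obtain ⟨w', hw'⟩ := Borel.exists_desc_fppf q f fun a b e => by
    rw [← cancel_mono z, Category.assoc, Category.assoc, hfq, reassoc_of% e]
  haveI : Epi q.left := Flat.epi_of_flat_of_surjective q.left
  haveI : Epi q := Over.epi_of_epi_left q
  exact ⟨w', by rw [← cancel_epi q, reassoc_of% hw', hfq]⟩

end Groth.L08.TorusWeights
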