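import Groth.Agent.L08.TorusWeights.Local
import Groth.Agent.L08.Borel.RedRankTorus
import Groth.Agent.S8439

/-!
# The reductive centre
-/

set_option autoImplicit false
set_option backward.isDefEq.respectTransparency.types false
set_option linter.style.haveILetI false
set_option linter.unusedSectionVars false
universe u

open CategoryTheory CategoryTheory.Limits MonoidalCategory CartesianMonoidalCategory MonObj GrpObj AlgebraicGeometry
open TopologicalSpace (Opens)

noncomputable section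

namespace Groth.L08.TorusWeights

open Groth.L25

variable {S : Scheme.{u}} {G : Over S} [GrpObj G]

/-- an étale chart with a split maximal torus -/
theorem exists_chart_maxTorus [Smooth G.hom] [IsAffineHom G.hom] (hr : SGA3x.RedRankLocallyConstant G) (s : S) :
    ∃ (P : Scheme.{u}) (_ : IsAffine P) (e : P ⟶ S) (p : P) (M : Type) (_ : AddCommGroup M)
      (i : Red.DS P M ⟶ Red.bc e G), Etale e ∧ e p = s ∧ AddGroup.FG M ∧ Red.IsMaximalTorus i := by
  haveI : LocallyOfFiniteType G.hom := inferInstance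
  haveI : QuasiCompact G.hom := inferInstance
  obtain ⟨S₁, f, hf, hfs, T, gT, i, hi⟩ := Borel.hasMaxTorusEtaleLocally hr
  obtain ⟨s₁, hs₁⟩ := hfs.surj s
  obtain ⟨S₂, g, hg, ⟨s₂, hs₂⟩, M, _, hM, ⟨eM⟩⟩ :=
    Extend.exists_etale_split (Locus.isMultTypeFT_of_isTorus hi.2.2.1) s₁
  haveI := hf
  haveI : Etale g := hg
  obtain ⟨V, hV, hs₂V, -⟩ := exists_isAffineOpen_mem_and_subset (X := S₂) (x := s₂) (U := ⊤) trivial
  let k : V.toScheme ⟶ S₁ := V.ι ≫ g
  let φ : Red.bc k T ≅ Red.DS V.toScheme M := (Grp.forget _).mapIso (TrivLocus.restrictIso g V.ι eM rfl)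
  haveI : IsMonHom φ.hom := Borel.isMonHom_forget _
  haveI : IsMonHom φ.symm.hom := inferInstanceAs (IsMonHom φ.inv)
  haveI : LocallyOfFiniteType (Red.bc f G).hom := inferInstanceAs (LocallyOfFiniteType (pullback.snd G.hom f))
  haveI : QuasiCompact (Red.bc f G).hom := inferInstanceAs (QuasiCompact (pullback.snd G.hom f))
  refine ⟨V.toScheme, hV, k ≫ f, ⟨s₂, hs₂V⟩, M, inferInstance, _, inferInstance, ?_, hM,
    Borel.isMaximalTorus_iso_comp (Borel.isMaximalTorus_comp_iso (Borel.isMaximalTorus_bc_fp hi k)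
      (ActBC.bcCompIso k f G rfl)) φ.symm⟩
  show f (g s₂) = s
  rw [show g s₂ = s₁ from hs₂, hs₁]

/-- the reductive centre on an étale chart -/
theorem exists_chart_centre [Smooth G.hom] [IsAffineHom G.hom]
    (hconn : ∀ s : S, _root_.IsConnected (G.hom.base ⁻¹' {s})) (hr : SGA3x.RedRankLocallyConstant G) (s : S) :
    ∃ (P : Scheme.{u}) (e : P ⟶ S) (p : P) (Z : Over P) (_ : GrpObj Z) (z : Z ⟶ Red.bc e G), Etale e ∧ e p = s ∧
      IsMonHom z ∧ Mono z ∧ SGA3x.IsMultTypeFT Z ∧ IsCentralHom z ∧ FieldUniv z := by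
  obtain ⟨P, hP, e, p, M, _, i, he, hp, hM, hi⟩ := exists_chart_maxTorus hr s
  haveI := hP; haveI := he
  haveI : Smooth (Red.bc e G).hom := inferInstanceAs (Smooth (pullback.snd G.hom e))
  haveI : IsAffineHom (Red.bc e G).hom := MorphismProperty.pullback_snd (P := @IsAffineHom) G.hom e inferInstance
  haveI : IsAffine (Red.bc e G).left := isAffine_of_isAffineHom (Red.bc e G).hom
  obtain ⟨U, hpU, Z, gZ, z, z1, z2, z3, z4, z5⟩ :=
    exists_local i hM (Extension.isConnected_fibre_bc e G hconn) hi p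
  haveI := z1; haveI := z2
  refine ⟨U.toScheme, U.ι ≫ e, ⟨p, hpU⟩, Z, gZ, z ≫ (ActBC.bcCompIso U.ι e G rfl).hom, inferInstance, hp,
    inferInstance, mono_comp _ _, z3, isCentralHom_comp z4 _, fun K _ _ b => (z5 K b).comp_iso _⟩

/-- groups split on étale charts are of multiplicative type -/
theorem isMultTypeFT_of_etale {H : Over S} [GrpObj H]
    (h : ∀ s : S, ∃ (V : Scheme.{u}) (g : V ⟶ S) (p : V) (M : Type) (_ : AddCommGroup M), Etale g ∧ g p = s ∧
      AddGroup.FG M ∧ Nonempty (Grp.mk (Red.bc g H) ≅ Grp.mk (Red.DS V M))) : SGA3x.IsMultTypeFT H := by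
  choose V g p M instM hg hp hM he using h
  let f : (∐ V) ⟶ S := Sigma.desc g
  haveI : Etale f := IsZariskiLocalAtSource.sigmaDesc (P := @Etale) hg
  haveI : Surjective f := ⟨fun s => ⟨Sigma.ι V s (p s), by rw [← Scheme.Hom.comp_apply, Sigma.ι_desc]; exact hp s⟩⟩
  refine ⟨∐ V, f, inferInstance, inferInstance, fun W hW => ?_, fun z => ?_⟩
  · obtain ⟨W', h1, h2⟩ := f.isOpenMap.exists_opens_image_eq_of_prespectralSpace f.continuous
      (U := (W : Set S)) (by rw [f.surjective.range_eq]; exact Set.subset_univ _) W.2 hW.isCompact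
    exact ⟨W', h1, h2⟩
  · obtain ⟨s, y, hy⟩ := (sigmaOpenCover V).exists_eq z
    letI := instM s
    obtain ⟨e⟩ := he s
    refine ⟨(Sigma.ι V s).opensRange, ⟨y, hy⟩, M s, instM s, hM s, ⟨?_⟩⟩
    refine TrivLocus.restrictIso (g s) (Sigma.ι V s).isoOpensRange.inv e ?_
    rw [← Sigma.ι_desc g s, ← Category.assoc, Scheme.Hom.isoOpensRange_inv_comp]

/-- centrality is local on the base -/
theorem isCentralHom_sigma {κ : Type u} {V : κ → Scheme.{u}} {G D : Over (∐ V)} [GrpObj G] {d : D ⟶ G}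
    (h : ∀ i, IsCentralHom ((Over.pullback (Sigma.ι V i)).map d)) : IsCentralHom d := fun X x g => by
  refine Borel.hom_ext_sigma _ _ fun i => ?_
  rw [Functor.map_mul, Functor.map_mul, Functor.map_comp]
  exact h i _ _ _

/-- **existence of the reductive centre on an étale cover** -/
theorem exists_cover_centre [Smooth G.hom] [IsAffineHom G.hom]
    (hconn : ∀ s : S, _root_.IsConnected (G.hom.base ⁻¹' {s})) (hr : SGA3x.RedRankLocallyConstant G) :
    ∃ (S' : Scheme.{u}) (F : S' ⟶ S), Etale F ∧ Surjective F ∧ ∃ (Z : Over S') (_ : GrpObj Z) (z : Z ⟶ Red.bc F G),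
      IsMonHom z ∧ Mono z ∧ SGA3x.IsMultTypeFT Z ∧ IsCentralHom z ∧ FieldUniv z := by
  choose V e p C gC c he hp hc hm hC hcc hcu using exists_chart_centre hconn hr
  let F : (∐ V) ⟶ S := Sigma.desc e
  let G' := Red.bc F G
  let c' : ∀ x, C x ⟶ Red.bc (Sigma.ι V x) G' := fun x =>
    c x ≫ (ActBC.bcCompIso (Sigma.ι V x) F G (Sigma.ι_desc e x)).symm.hom
  haveI := hc; haveI := hm
  haveI : ∀ x, IsMonHom (ActBC.bcCompIso (Sigma.ι V x) F G (Sigma.ι_desc e x)).symm.hom := fun x =>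
    inferInstanceAs (IsMonHom (ActBC.bcCompIso (Sigma.ι V x) F G (Sigma.ι_desc e x)).inv)
  obtain ⟨D, gD, d, hd, hdm, -, hiso⟩ := Borel.exists_subgroup_sigma G' C c'
    (fun x => inferInstanceAs (IsMonHom (_ ≫ _))) (fun x => mono_comp _ _)
  haveI := hd; haveI := hdm
  haveI hF : Etale F := IsZariskiLocalAtSource.sigmaDesc (P := @Etale) he
  refine ⟨∐ V, F, hF, ⟨fun s => ⟨Sigma.ι V s (p s), ?_⟩⟩, D, gD, d, hd, hdm, ?_, ?_, ?_⟩
  · rw [← Scheme.Hom.comp_apply, Sigma.ι_desc]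
    exact hp s
  · refine isMultTypeFT_of_etale fun q => ?_
    obtain ⟨x, y, hy⟩ := (sigmaOpenCover V).exists_eq q
    obtain ⟨φ, hφ, -⟩ := hiso x
    haveI := hφ
    obtain ⟨S₂, g, hg, ⟨y₂, hy₂⟩, M, _, hM, ⟨eM⟩⟩ := Extend.exists_etale_split (hC x) y
    haveI : Etale g := hg
    exact ⟨S₂, g ≫ Sigma.ι V x, y₂, M, inferInstance, inferInstance,
      by rw [Scheme.Hom.comp_apply, show g y₂ = y from hy₂]; exact hy, hM,
      ⟨(Grp.mkIso' (ActBC.bcCompIso g (Sigma.ι V x) D rfl)).symm ≪≫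
        (Over.pullback g).mapGrp.mapIso (Grp.mkIso' φ) ≪≫ eM⟩⟩
  · refine isCentralHom_sigma fun x X a g => ?_
    obtain ⟨φ, -, hφ⟩ := hiso x
    rw [← hφ, ← Category.assoc]
    exact isCentralHom_comp (hcc x) _ X (a ≫ φ.hom) g
  · intro K _ _ b
    obtain ⟨x, y, hy⟩ := (sigmaOpenCover V).exists_eq (b (IsLocalRing.closedPoint K))
    have hr : Set.range b ⊆ Set.range (Sigma.ι V x) := by
      rintro _ ⟨q, rfl⟩
      rw [Subsingleton.elim (α := PrimeSpectrum K) q (IsLocalRing.closedPoint K)]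
      exact ⟨y, hy⟩
    obtain ⟨φ, -, hφ⟩ := hiso x
    refine FieldUnivAt.of_map (IsOpenImmersion.lift_fac (Sigma.ι V x) b hr) ?_
    exact FieldUnivAt.of_iso φ.inv (by rw [Iso.inv_comp_eq]; exact hφ.symm) ((hcu x K _).comp_iso _)

end Groth.L08.TorusWeights
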