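import Groth.Agent.L08.TorusWeights.CentReductive
import Groth.Agent.L08.Borel.CommTorusGlobal
import Groth.Agent.L25.Locus.Normalizer
import Groth.Agent.S8402

/-!
# Centres of centralisers of tori in reductive groups
-/

set_option autoImplicit false
set_option backward.isDefEq.respectTransparency.types false
set_option linter.style.haveILetI false
set_option linter.unusedSectionVars false

universe u

open CategoryTheory CategoryTheory.Limits MonoidalCategory CartesianMonoidalCategory MonObj GrpObj AlgebraicGeometry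

noncomputable section

namespace Groth.L08.TorusWeights

variable {S : Scheme.{u}}

/-- a factorisation of a homomorphism through a mono homomorphism is a homomorphism -/
theorem isMonHom_of_mono {A B G : Over S} [GrpObj A] [GrpObj B] [GrpObj G] (p : A ⟶ B) (i : B ⟶ G) [IsMonHom i]
    [Mono i] (f : A ⟶ G) [IsMonHom f] (hp : p ≫ i = f) : IsMonHom p :=
  { one_hom := by rw [← cancel_mono i, Category.assoc, hp, IsMonHom.one_hom, IsMonHom.one_hom]
    mul_hom := by
      rw [← cancel_mono i, Category.assoc, hp, IsMonHom.mul_hom, Category.assoc, IsMonHom.mul_hom (f := i),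
        ← hp, tensorHom_comp_tensorHom_assoc] }

/-- two centralisers of the same morphism are isomorphic over G -/
theorem exists_iso_centralizer {G H Z Z' : Over S} [GrpObj G] [GrpObj H] [GrpObj Z] [GrpObj Z'] {i : H ⟶ G}
    {z : Z ⟶ G} {z' : Z' ⟶ G} (hz : Red.IsCentralizerOf i z) (hz' : Red.IsCentralizerOf i z') :
    ∃ e : Z ≅ Z', e.hom ≫ z' = z ∧ e.inv ≫ z = z' ∧ IsMonHom e.hom ∧ IsMonHom e.inv := by
  haveI := hz.1; haveI := hz.2.1; haveI := hz'.1; haveI := hz'.2.1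
  obtain ⟨a, ha⟩ := (hz'.2.2 Z z).2 ((hz.2.2 Z z).1 ⟨𝟙 Z, Category.id_comp z⟩)
  obtain ⟨b, hb⟩ := (hz.2.2 Z' z').2 ((hz'.2.2 Z' z').1 ⟨𝟙 Z', Category.id_comp z'⟩)
  exact ⟨⟨a, b, by rw [← cancel_mono z, Category.assoc, hb, ha, Category.id_comp],
      by rw [← cancel_mono z', Category.assoc, ha, hb, Category.id_comp]⟩, ha, hb,
    isMonHom_of_mono a z' z ha, isMonHom_of_mono b z z' hb⟩

/-- points of the centralizer commute with points of the torus -/
theorem commute_centralizer {G H Z : Over S} [GrpObj G] [GrpObj H] [GrpObj Z] {i : H ⟶ G} {z : Z ⟶ G}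
    (hz : Red.IsCentralizerOf i z) {X : Over S} (g : X ⟶ Z) (h : X ⟶ H) :
    (g ≫ z) * (h ≫ i) = (h ≫ i) * (g ≫ z) := by
  have := (hz.2.2 X (g ≫ z)).1 ⟨g, rfl⟩ X (𝟙 X) h
  rwa [Category.id_comp] at this

/-- points of the centre commute -/
theorem commute_centre {G Z : Over S} [GrpObj G] [GrpObj Z] {z : Z ⟶ G} (hz : Red.IsCentre z) {X : Over S}
    (g : X ⟶ Z) (h : X ⟶ G) : (g ≫ z) * h = h * (g ≫ z) := by
  have := commute_centralizer hz g h
  rwa [Category.comp_id] at this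

/-- a torus is commutative on points -/
theorem torus_comm {Q : Over S} [GrpObj Q] (hQ : Red.IsTorus Q) {X : Over S} (x y : X ⟶ Q) : x * y = y * x :=
  Groth.L25.Central.mul_comm_of_multTypeFT (Groth.L25.Locus.isMultTypeFT_of_isTorus hQ) x y

/-- a torus maps into its centralizer -/
theorem exists_self_centralizer {G Q Z : Over S} [GrpObj G] [GrpObj Q] [GrpObj Z] (q : Q ⟶ G) [IsMonHom q]
    (hQ : Red.IsTorus Q) {z : Z ⟶ G} (hz : Red.IsCentralizerOf q z) : ∃ w : Q ⟶ Z, w ≫ z = q :=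
  (hz.2.2 Q q).2 fun X' x h => by
    rw [← MonObj.mul_comp, ← MonObj.mul_comp, torus_comm hQ]

/-- the centre of the centralizer of a torus in a reductive group is locally of finite presentation -/
theorem lfp_centre_centralizer {G Q Z ZZ : Over S} [GrpObj G] [GrpObj Q] [GrpObj Z] [GrpObj ZZ]
    (hG : Red.IsReductive G) (q : Q ⟶ G) [IsMonHom q] [Mono q] (hQ : Red.IsTorus Q) {z : Z ⟶ G}
    (hZ : Red.IsCentralizerOf q z) {jz : ZZ ⟶ Z} (hZZ : Red.IsCentre jz) : LocallyOfFinitePresentation ZZ.hom := by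
  obtain ⟨Z0, gZ0, z0, hz0, -, hred⟩ := exists_centralizer_reductive hG q hQ
  obtain ⟨e, he, he', hem, hem'⟩ := exists_iso_centralizer hZ hz0
  haveI := hem; haveI := hem'; haveI := hZZ.1; haveI := hZZ.2.1
  haveI := hred.1; haveI := hred.2.1
  obtain ⟨C, gC, c, hc, -, -, hCm, -, -⟩ :=
    Groth.Agent.S8402.result S Z0 (isConnected_of_isReductive hred) (unipotentRankZero_of_isReductive hred)
  haveI := hc.1; haveI := hc.2.1
  have hjz : Red.IsCentre (jz ≫ e.hom) := ⟨inferInstance, mono_comp _ _, fun X g => by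
    constructor
    · rintro ⟨w, rfl⟩ X' x h
      have := commute_centre hZZ (x ≫ w) (h ≫ e.inv)
      have h2 := congrArg (· ≫ e.hom) this
      simpa [MonObj.mul_comp] using h2
    · intro hg
      obtain ⟨w, hw⟩ := (hZZ.2.2 X (g ≫ e.inv)).2 fun X' x h => by
        rw [← cancel_mono e.hom]
        have := hg X' x (h ≫ e.hom)
        simpa [MonObj.mul_comp] using this
      exact ⟨w, by rw [reassoc_of% hw]; simp⟩⟩
  obtain ⟨f, hf, -, -, -⟩ := exists_iso_centralizer hjz hc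
  haveI := Groth.L25.Locus.lfp_of_multTypeFT hCm
  haveI : IsIso f.hom.left := inferInstanceAs (IsIso ((Over.forget _).map f.hom))
  rw [← Over.w f.hom]
  infer_instance

/-- **a torus lies in the radical of its centralizer**, and has the same centralizer -/
theorem torus_le_radical {G Q Z ZZ R : Over S} [GrpObj G] [GrpObj Q] [GrpObj Z] [GrpObj ZZ] [GrpObj R]
    (hG : Red.IsReductive G) (q : Q ⟶ G) [IsMonHom q] [Mono q] (hQ : Red.IsTorus Q) {z : Z ⟶ G}
    (hZ : Red.IsCentralizerOf q z) {jz : ZZ ⟶ Z} (hZZ : Red.IsCentre jz) {r : R ⟶ ZZ} (hR : Red.IsMaximalTorus r) :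
    (∃ q' : Q ⟶ R, q' ≫ r ≫ jz ≫ z = q) ∧ Red.IsCentralizerOf (r ≫ jz ≫ z) z := by
  haveI := hZ.1; haveI := hZ.2.1; haveI := hZZ.1; haveI := hZZ.2.1; haveI := hR.1
  obtain ⟨w, hw⟩ := exists_self_centralizer q hQ hZ
  obtain ⟨w', hw'⟩ := (hZZ.2.2 Q w).2 fun X' x h => by
    rw [Category.comp_id, ← cancel_mono z, MonObj.mul_comp, MonObj.mul_comp, Category.assoc, hw]
    exact (commute_centralizer hZ h x).symm
  haveI : IsMonHom w := isMonHom_of_mono w z q hw
  haveI : IsMonHom w' := isMonHom_of_mono w' jz w hw'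
  haveI := lfp_centre_centralizer hG q hQ hZ hZZ
  obtain ⟨q', hq'⟩ := Groth.L08.Borel.exists_fac_of_commute hR w' hQ fun X t x => by
    rw [← cancel_mono jz, MonObj.mul_comp, MonObj.mul_comp]
    exact (commute_centre hZZ (x ≫ w') ((t ≫ r) ≫ jz)).symm
  have hq : q' ≫ r ≫ jz ≫ z = q := by rw [reassoc_of% hq', reassoc_of% hw', hw]
  refine ⟨⟨q', hq⟩, inferInstance, hZ.2.1, fun X g => ⟨?_, fun hg => ?_⟩⟩
  · rintro ⟨y, rfl⟩ X' x h
    have := congrArg (· ≫ z) (commute_centre hZZ (h ≫ r) (x ≫ y)).symm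
    simpa [MonObj.mul_comp] using this
  · refine (hZ.2.2 X g).2 fun X' x h => ?_
    have := hg X' x (h ≫ q')
    rwa [Category.assoc, hq] at this

/-- **the radical of the centralizer is the smallest critical torus** -/
theorem radical_le_critical {G Q Z ZZ RZ Q' Z' ZZ' : Over S} [GrpObj G]
    [GrpObj Q] [GrpObj Z] [GrpObj ZZ] [GrpObj RZ] [GrpObj Q'] [GrpObj Z'] [GrpObj ZZ'] (hG : Red.IsReductive G)
    (q : Q ⟶ G) [IsMonHom q] [Mono q] {z : Z ⟶ G} (hZ : Red.IsCentralizerOf q z)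
    {jzz : ZZ ⟶ Z} (hZZ : Red.IsCentre jzz) {rz : RZ ⟶ ZZ} (hRZ : Red.IsMaximalTorus rz)
    (q' : Q' ⟶ G) [IsMonHom q'] [Mono q'] (hQ' : Red.IsTorus Q') (k : Q ⟶ Q') (hk : k ≫ q' = q)
    {z' : Z' ⟶ G} (hZ' : Red.IsCentralizerOf q' z') {jzz' : ZZ' ⟶ Z'} (hZZ' : Red.IsCentre jzz')
    {m' : Q' ⟶ ZZ'} (hm' : m' ≫ jzz' ≫ z' = q') (hcrit : Red.IsMaximalTorus m') :
    ∃ l : RZ ⟶ Q', l ≫ q' = rz ≫ jzz ≫ z := by
  haveI := hZ.1; haveI := hZ.2.1; haveI := hZZ.1; haveI := hZZ.2.1; haveI := hRZ.1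
  haveI := hZ'.1; haveI := hZ'.2.1; haveI := hZZ'.1; haveI := hZZ'.2.1
  -- the larger torus and its centralizer lie in the centralizer
  have hsub : ∀ (X : Over S) (y : X ⟶ Z'), ∃ v : X ⟶ Z, v ≫ z = y ≫ z' := fun X y =>
    (hZ.2.2 X (y ≫ z')).2 fun X' x h => by
      have := commute_centralizer hZ' (x ≫ y) (h ≫ k)
      simpa [hk] using this
  have hQZ : ∀ (X : Over S) (y : X ⟶ Q'), ∃ v : X ⟶ Z, v ≫ z = y ≫ q' := fun X y => by
    obtain ⟨v, hv⟩ := hsub X (y ≫ m' ≫ jzz')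
    exact ⟨v, by rw [hv]; simp [hm']⟩
  obtain ⟨w, hw⟩ := (hZ'.2.2 RZ (rz ≫ jzz ≫ z)).2 fun X' x h => by
    obtain ⟨v, hv⟩ := hQZ X' h
    have := congrArg (· ≫ z) (commute_centre hZZ (x ≫ rz) v)
    simpa [MonObj.mul_comp, hv] using this
  obtain ⟨w', hw'⟩ := (hZZ'.2.2 RZ w).2 fun X' x h => by
    obtain ⟨v, hv⟩ := hsub X' h
    rw [Category.comp_id, ← cancel_mono z', MonObj.mul_comp, MonObj.mul_comp, Category.assoc, hw, ← hv]
    have := congrArg (· ≫ z) (commute_centre hZZ (x ≫ rz) v)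
    simpa [MonObj.mul_comp] using this
  haveI : IsMonHom w := isMonHom_of_mono w z' _ hw
  haveI : IsMonHom w' := isMonHom_of_mono w' jzz' w hw'
  haveI := lfp_centre_centralizer hG q' hQ' hZ' hZZ'
  obtain ⟨l, hl⟩ := Groth.L08.Borel.exists_fac_of_commute hcrit w' hRZ.2.2.1 fun X t x => by
    rw [← cancel_mono jzz', MonObj.mul_comp, MonObj.mul_comp]
    exact (commute_centre hZZ' (x ≫ w') ((t ≫ m') ≫ jzz')).symm
  exact ⟨l, by rw [← hm', reassoc_of% hl, reassoc_of% hw', hw]⟩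

end Groth.L08.TorusWeights
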