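import Groth.Agent.L08.TorusWeights.Basic
import Groth.Agent.L08.Borel.CartanNhd
import Groth.Agent.L08.Borel.Cover
import Groth.Agent.L19.ClopenScheme
import Groth.Agent.L25.SplitSub.Quot

/-!
# Smooth groups with connected fibres are covered by products of two points of a fibrewise dense open
-/

set_option autoImplicit false
set_option backward.isDefEq.respectTransparency.types false
set_option linter.style.haveILetI false
set_option linter.unusedSectionVars false

universe u

open CategoryTheory CategoryTheory.Limits MonoidalCategory CartesianMonoidalCategory MonObj GrpObj AlgebraicGeometry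
open Groth.L25

noncomputable section

namespace Groth.L08.TorusWeights

variable {S : Scheme.{u}}

/-- pulling a point back along a flat covering -/
theorem exists_cover_lift {A B X : Over S} (f : A ⟶ B) [Flat f.left] [LocallyOfFinitePresentation f.left]
    (u : X ⟶ B) (hu : ∀ x : X.left, u.left x ∈ Set.range f.left) :
    ∃ (X' : Over S) (c : X' ⟶ X) (w : X' ⟶ A), Flat c.left ∧ LocallyOfFinitePresentation c.left ∧
      Surjective c.left ∧ Epi c ∧ w ≫ f = c ≫ u := by
  let c : Over.mk (pullback.snd f.left u.left ≫ X.hom) ⟶ X := Over.homMk (pullback.snd f.left u.left)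
  haveI : Flat c.left := inferInstanceAs (Flat (pullback.snd f.left u.left))
  haveI : LocallyOfFinitePresentation c.left :=
    inferInstanceAs (LocallyOfFinitePresentation (pullback.snd f.left u.left))
  haveI : Surjective c.left := ⟨fun x => by
    obtain ⟨a, ha⟩ := hu x
    obtain ⟨z, -, hz⟩ := Scheme.Pullback.exists_preimage_pullback (f := f.left) (g := u.left) a x ha
    exact ⟨z, hz⟩⟩
  haveI : Epi c.left := Flat.epi_of_flat_of_surjective c.left
  refine ⟨_, c, Over.homMk (pullback.fst f.left u.left) ?_, inferInstance, inferInstance, inferInstance,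
    Over.epi_of_epi_left c, Over.OverMorphism.ext pullback.condition⟩
  show pullback.fst f.left u.left ≫ A.hom = pullback.snd f.left u.left ≫ X.hom
  rw [← Over.w f, ← Category.assoc, pullback.condition, Category.assoc, Over.w u]

/-- **every point is, on an fppf covering, a product of two points of a fibrewise nonempty open** -/
theorem exists_mul_cover_fppf {G : Over S} [GrpObj G] [Smooth G.hom]
    (hconn : ∀ s : S, _root_.IsConnected (G.hom.base ⁻¹' {s})) (V : G.left.Opens)
    (hV : ∀ s : S, ∃ x ∈ V, G.hom x = s) {X : Over S} (h : X ⟶ G) :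
    ∃ (X' : Over S) (c : X' ⟶ X) (a b : X' ⟶ G), Epi c ∧
      Flat c.left ∧ LocallyOfFinitePresentation c.left ∧ Surjective c.left ∧
      (∀ x, a.left x ∈ V) ∧ (∀ x, b.left x ∈ V) ∧ c ≫ h = a * b := by
  let Vo : Over S := Over.mk (V.ι ≫ G.hom)
  let iV : Vo ⟶ G := Over.homMk V.ι
  haveI : IsOpenImmersion iV.left := inferInstanceAs (IsOpenImmersion V.ι)
  let m : Vo ⊗ Vo ⟶ G := (fst Vo Vo ≫ iV) * (snd Vo Vo ≫ iV)
  let σ : G ⊗ G ≅ G ⊗ G :=
    { hom := lift (fst G G) (fst G G * snd G G)
      inv := lift (fst G G) ((fst G G)⁻¹ * snd G G)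
      hom_inv_id := by
        refine CartesianMonoidalCategory.hom_ext _ _ (by simp) ?_
        simp [MonObj.comp_mul, GrpObj.comp_inv]
      inv_hom_id := by
        refine CartesianMonoidalCategory.hom_ext _ _ (by simp) ?_
        simp [MonObj.comp_mul] }
  have hm : m = (Vo ◁ iV) ≫ (iV ▷ G) ≫ σ.hom ≫ snd G G := by
    simp [m, σ, MonObj.comp_mul]
  haveI : IsOpenImmersion (Vo ◁ iV).left :=
    MorphismProperty.of_isPullback (Groth.L19.ClopenScheme.isPullback_whiskerLeft Vo iV).flip inferInstance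
  haveI : IsOpenImmersion (iV ▷ G).left := by
    have e : iV ▷ G = (β_ Vo G).hom ≫ (G ◁ iV) ≫ (β_ G G).hom := by simp
    haveI : IsOpenImmersion (G ◁ iV).left :=
      MorphismProperty.of_isPullback (Groth.L19.ClopenScheme.isPullback_whiskerLeft G iV).flip inferInstance
    haveI : IsIso (β_ Vo G).hom.left := inferInstanceAs (IsIso ((Over.forget S).map (β_ Vo G).hom))
    haveI : IsIso (β_ G G).hom.left := inferInstanceAs (IsIso ((Over.forget S).map (β_ G G).hom))
    rw [e, Over.comp_left, Over.comp_left]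
    infer_instance
  haveI : IsIso σ.hom := σ.isIso_hom
  haveI : IsIso σ.hom.left := inferInstanceAs (IsIso ((Over.forget S).map σ.hom))
  haveI : Smooth (snd G G).left := inferInstanceAs (Smooth (pullback.snd G.hom G.hom))
  have hml : m.left = (Vo ◁ iV).left ≫ (iV ▷ G).left ≫ σ.hom.left ≫ (snd G G).left := by
    rw [hm, Over.comp_left, Over.comp_left, Over.comp_left]
  haveI : Flat m.left := by rw [hml]; infer_instance
  haveI : LocallyOfFinitePresentation m.left := by rw [hml]; infer_instance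
  obtain ⟨X', c, w, hcf, hcl, hcs, hce, hw⟩ := exists_cover_lift m h fun x => by
    -- a geometric point over the point
    let p := h.left x
    let K := AlgebraicClosure (G.left.residueField p)
    let ρ : Spec (CommRingCat.of K) ⟶ G.left :=
      Spec.map (CommRingCat.ofHom (algebraMap (G.left.residueField p) K)) ≫ G.left.fromSpecResidueField p
    let θ : Spec (CommRingCat.of K) ⟶ S := ρ ≫ G.hom
    haveI : Smooth (Red.bc θ G).hom := inferInstanceAs (Smooth (pullback.snd G.hom θ))
    haveI : ConnectedSpace ↥(Red.bc θ G).left := Borel.connectedSpace_bc_point G hconn θ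
    haveI : LocallyOfFiniteType (Red.bc θ G).hom := inferInstance
    haveI : IsLocallyNoetherian (Red.bc θ G).left := LocallyOfFiniteType.isLocallyNoetherian (Red.bc θ G).hom
    haveI : IrreducibleSpace (Red.bc θ G).left := Groth.L25.Component.irreducibleSpace _
    let pr : (Red.bc θ G).left ⟶ G.left := pullback.fst G.hom θ
    let O : (Red.bc θ G).left.Opens := pr ⁻¹ᵁ V
    let A := 𝟙_ (Over (Spec (CommRingCat.of K)))
    let x₀ : A ⟶ Red.bc θ G := Over.homMk (pullback.lift ρ (𝟙 _) (Category.id_comp _).symm) (pullback.lift_snd _ _ _)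
    let τ : Red.bc θ G ⟶ Red.bc θ G := (toUnit _ ≫ x₀) * (𝟙 (Red.bc θ G))⁻¹
    haveI : IsIso τ := ⟨(𝟙 (Red.bc θ G))⁻¹ * (toUnit _ ≫ x₀), by
      simp only [τ, MonObj.comp_mul, GrpObj.comp_inv, Category.comp_id, ← Category.assoc _ (toUnit (Red.bc θ G)),
        toUnit_unique (((toUnit _ ≫ x₀) * (𝟙 (Red.bc θ G))⁻¹) ≫ toUnit (Red.bc θ G)) (toUnit _)]
      group, by
      simp only [τ, MonObj.comp_mul, GrpObj.comp_inv, Category.comp_id, ← Category.assoc _ (toUnit (Red.bc θ G)),
        toUnit_unique (((𝟙 (Red.bc θ G))⁻¹ * (toUnit _ ≫ x₀)) ≫ toUnit (Red.bc θ G)) (toUnit _)]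
      group⟩
    haveI : IsIso τ.left := inferInstanceAs (IsIso ((Over.forget _).map τ))
    have hO : (O : Set (Red.bc θ G).left).Nonempty := by
      obtain ⟨v, hv, hvs⟩ := hV (θ (IsLocalRing.closedPoint K))
      obtain ⟨z, hz, -⟩ := Scheme.Pullback.exists_preimage_pullback (f := G.hom) (g := θ) v
        (IsLocalRing.closedPoint K) hvs
      exact ⟨z, show pr z ∈ V from hz.symm ▸ hv⟩
    have hτO : ((τ.left ⁻¹ᵁ O : (Red.bc θ G).left.Opens) : Set (Red.bc θ G).left).Nonempty := by
      obtain ⟨z, hz⟩ := hO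
      obtain ⟨y, rfl⟩ := τ.left.homeomorph.surjective z
      exact ⟨y, hz⟩
    obtain ⟨y, hy⟩ := Borel.exists_pt_mem (X := Red.bc θ G)
      (O := ((τ.left ⁻¹ᵁ O ⊓ O : (Red.bc θ G).left.Opens) : Set (Red.bc θ G).left))
      (τ.left ⁻¹ᵁ O ⊓ O).2.isLocallyClosed
      (nonempty_preirreducible_inter (τ.left ⁻¹ᵁ O).2 O.2 hτO hO)
    have hmem : ∀ (u : A ⟶ Red.bc θ G), u.left (IsLocalRing.closedPoint K) ∈ O →
        ∃ u' : Over.mk (A.hom ≫ θ) ⟶ Vo, u' ≫ iV = NilAction.toBase θ u := fun u hu => by
      have hr : Set.range (NilAction.toBase θ u).left ⊆ Set.range V.ι := by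
        rintro _ ⟨z, rfl⟩
        rw [V.range_ι, show z = IsLocalRing.closedPoint K from Subsingleton.elim (α := PrimeSpectrum K) _ _]
        exact hu
      refine ⟨Over.homMk (IsOpenImmersion.lift V.ι (NilAction.toBase θ u).left hr) ?_,
        Over.OverMorphism.ext (IsOpenImmersion.lift_fac _ _ _)⟩
      show IsOpenImmersion.lift V.ι _ hr ≫ V.ι ≫ G.hom = _
      rw [IsOpenImmersion.lift_fac_assoc]
      exact Over.w (NilAction.toBase θ u)
    obtain ⟨a', ha'⟩ := hmem (y ≫ τ) hy.1
    obtain ⟨b', hb'⟩ := hmem y hy.2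
    have e : lift a' b' ≫ m = NilAction.toBase θ x₀ := by
      simp only [m, MonObj.comp_mul, lift_fst_assoc, lift_snd_assoc]
      rw [ha', hb', ← NilAction.toBase_mul]
      congr 1
      simp only [τ, MonObj.comp_mul, GrpObj.comp_inv, Category.comp_id, ← Category.assoc,
        toUnit_unique (y ≫ toUnit (Red.bc θ G)) (toUnit A), show toUnit A = 𝟙 A from toUnit_unique _ _,
        Category.id_comp, inv_mul_cancel_right]
    refine ⟨(lift a' b').left (IsLocalRing.closedPoint K), ?_⟩
    refine (Scheme.Hom.comp_apply _ m.left _).symm.trans ?_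
    rw [← Over.comp_left, e]
    show (pullback.lift ρ (𝟙 _) _ ≫ pullback.fst G.hom θ) _ = _
    rw [pullback.lift_fst, Scheme.Hom.comp_apply]
    exact G.left.fromSpecResidueField_apply p _
  refine ⟨X', c, w ≫ fst Vo Vo ≫ iV, w ≫ snd Vo Vo ≫ iV, hce, hcf, hcl, hcs, fun z => ?_, fun z => ?_, ?_⟩
  · rw [← Category.assoc, Over.comp_left, Scheme.Hom.comp_apply]
    exact (((w ≫ fst Vo Vo).left z : (V : Scheme.{u}))).2
  · rw [← Category.assoc, Over.comp_left, Scheme.Hom.comp_apply]
    exact (((w ≫ snd Vo Vo).left z : (V : Scheme.{u}))).2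
  · rw [← hw]
    simp [m, MonObj.comp_mul]

/-- **every point is locally a product of two points of a fibrewise nonempty open** -/
theorem exists_mul_cover {G : Over S} [GrpObj G] [Smooth G.hom]
    (hconn : ∀ s : S, _root_.IsConnected (G.hom.base ⁻¹' {s})) (V : G.left.Opens)
    (hV : ∀ s : S, ∃ x ∈ V, G.hom x = s) {X : Over S} (h : X ⟶ G) :
    ∃ (X' : Over S) (c : X' ⟶ X) (a b : X' ⟶ G), Epi c ∧
      (∀ x, a.left x ∈ V) ∧ (∀ x, b.left x ∈ V) ∧ c ≫ h = a * b := by
  obtain ⟨X', c, a, b, h1, -, -, -, h2⟩ := exists_mul_cover_fppf hconn V hV h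
  exact ⟨X', c, a, b, h1, h2⟩

end Groth.L08.TorusWeights
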