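import Groth.Agent.L25.DSPts
import Groth.Agent.L25.SplitSub.Quot
import Mathlib.AlgebraicGeometry.AffineScheme
import Mathlib.Algebra.MonoidAlgebra.Lift

/-!
# Weights of conjugation by a split torus on an affine group
-/

set_option autoImplicit false
set_option backward.isDefEq.respectTransparency.types false
set_option linter.style.haveILetI false
universe u

open CategoryTheory CategoryTheory.Limits MonoidalCategory CartesianMonoidalCategory MonObj AlgebraicGeometry

noncomputable section

namespace Groth.L08.TorusWeights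

open Groth.L25

variable {S : Scheme.{u}} {G : Over S} [GrpObj G] [IsAffine G.left] {M : Type} [AddCommGroup M]
  (i : Red.DS S M ⟶ G)

/-- the coordinate ring of the product -/
abbrev CR (G : Over S) (M : Type) [AddCommGroup M] : Type u := MonoidAlgebra Γ(G.left, ⊤) (Multiplicative M)

/-- the universal pair (point of the torus, point of the group) -/
def univ (G : Over S) [IsAffine G.left] (M : Type) [AddCommGroup M] : Over S :=
  Over.mk (Spec.map (CommRingCat.ofHom (MonoidAlgebra.singleOneRingHom :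
    Γ(G.left, ⊤) →+* CR G M)) ≫ G.left.isoSpec.inv ≫ G.hom)

/-- the universal point of the group -/
def univG (G : Over S) [IsAffine G.left] (M : Type) [AddCommGroup M] : univ G M ⟶ G :=
  Over.homMk (Spec.map (CommRingCat.ofHom (MonoidAlgebra.singleOneRingHom :
    Γ(G.left, ⊤) →+* CR G M)) ≫ G.left.isoSpec.inv) (Category.assoc _ _ _)

/-- the universal point of the torus -/
def univT (G : Over S) [IsAffine G.left] (M : Type) [AddCommGroup M] : univ G M ⟶ Red.DS S M :=
  DSPts.pt (((Scheme.ΓSpecIso (CommRingCat.of (CR G M))).inv.hom.toMonoidHom).comp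
    (MonoidAlgebra.of Γ(G.left, ⊤) (Multiplicative M)))

/-- the coefficients of conjugation -/
def co (a : Γ(G.left, ⊤)) : CR G M :=
  (Scheme.ΓSpecIso (CommRingCat.of (CR G M))).hom.hom
    (((univT G M ≫ i) * univG G M * (univT G M ≫ i)⁻¹).left.appTop.hom a)

/-- evaluation at a pair of points -/
def ev {Y : Over S} (t : Y ⟶ Red.DS S M) (g : Y ⟶ G) : CR G M →+* Γ(Y.left, ⊤) :=
  MonoidAlgebra.liftNCRingHom g.left.appTop.hom (DSPts.char t) fun _ _ => Commute.all _ _

omit [GrpObj G] [IsAffine G.left] in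
theorem ev_single {Y : Over S} (t : Y ⟶ Red.DS S M) (g : Y ⟶ G) (m : Multiplicative M) (a : Γ(G.left, ⊤)) :
    ev t g (MonoidAlgebra.single m a) = g.left.appTop.hom a * DSPts.char t m :=
  MonoidAlgebra.liftNC_single _ _ _ _

omit [GrpObj G] [IsAffine G.left] in
theorem ev_eq_sum {Y : Over S} (t : Y ⟶ Red.DS S M) (g : Y ⟶ G) (x : CR G M) :
    ev t g x = x.coeff.sum fun m a => g.left.appTop.hom a * DSPts.char t m := by
  classical
  induction x using MonoidAlgebra.induction_linear with
  | zero => simp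
  | add p q hp hq =>
    rw [map_add, hp, hq, MonoidAlgebra.coeff_add, Finsupp.sum_add_index']
    · intros; simp
    · intros; simp [add_mul]
  | single m a => rw [ev_single, MonoidAlgebra.coeff_single, Finsupp.sum_single_index]; simp

/-- **conjugation is computed by the coefficients** -/
theorem conj_appTop {Y : Over S} (t : Y ⟶ Red.DS S M) (g : Y ⟶ G) (a : Γ(G.left, ⊤)) :
    ((t ≫ i) * g * (t ≫ i)⁻¹).left.appTop.hom a = ev t g (co i a) := by
  let ψ := ev t g
  let cl : Y.left ⟶ Spec (CommRingCat.of (CR G M)) := Y.left.toSpecΓ ≫ Spec.map (CommRingCat.ofHom ψ)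
  have hψ : CommRingCat.ofHom (MonoidAlgebra.singleOneRingHom : Γ(G.left, ⊤) →+* CR G M) ≫ CommRingCat.ofHom ψ =
      g.left.appTop := CommRingCat.hom_ext (RingHom.ext fun x => by
    show ψ (MonoidAlgebra.single 1 x) = _
    rw [ev_single, map_one, _root_.mul_one])
  have h1 : cl ≫ Spec.map (CommRingCat.ofHom (MonoidAlgebra.singleOneRingHom : Γ(G.left, ⊤) →+* CR G M)) ≫
      G.left.isoSpec.inv = g.left := by
    rw [Category.assoc, ← Spec.map_comp_assoc, hψ, ← Scheme.toSpecΓ_naturality_assoc, Scheme.isoSpec, asIso_inv,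
      IsIso.hom_inv_id, Category.comp_id]
  let c : Y ⟶ univ G M := Over.homMk cl (by
    show cl ≫ Spec.map _ ≫ G.left.isoSpec.inv ≫ G.hom = Y.hom
    rw [reassoc_of% h1]
    exact Over.w g)
  have hg : c ≫ univG G M = g := Over.OverMorphism.ext h1
  have hc : ∀ x : CR G M, cl.appTop.hom ((Scheme.ΓSpecIso (CommRingCat.of (CR G M))).inv.hom x) = ψ x := by
    intro x
    have h2 : (Scheme.ΓSpecIso (CommRingCat.of (CR G M))).inv ≫ cl.appTop = CommRingCat.ofHom ψ := by
      rw [Scheme.Hom.comp_appTop, ← Category.assoc, ← Scheme.ΓSpecIso_inv_naturality, Category.assoc,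
        Scheme.toSpecΓ_appTop, Iso.inv_hom_id, Category.comp_id]
    exact congrArg (fun f => f.hom x) h2
  have ht : c ≫ univT G M = t := by
    apply DSPts.char_injective
    refine MonoidHom.ext fun m => ?_
    rw [DSPts.char_comp, univT, DSPts.char_pt]
    refine (hc (MonoidAlgebra.single m 1)).trans ?_
    rw [ev_single, map_one, _root_.one_mul]
  have h3 : c ≫ ((univT G M ≫ i) * univG G M * (univT G M ≫ i)⁻¹) = (t ≫ i) * g * (t ≫ i)⁻¹ := by
    rw [MonObj.comp_mul, MonObj.comp_mul, GrpObj.comp_inv, ← Category.assoc, ht, hg]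
  rw [← h3, Over.comp_left, Scheme.Hom.comp_appTop, CommRingCat.comp_apply, co]
  refine Eq.trans ?_ (hc _)
  refine congrArg _ ?_
  exact (Iso.hom_inv_id_apply (Scheme.ΓSpecIso (CommRingCat.of (CR G M))) _).symm

variable [IsMonHom i]

/-- the coefficients add up -/
theorem sum_co {Y : Over S} (g : Y ⟶ G) (a : Γ(G.left, ⊤)) :
    (co i a).coeff.sum (fun _ b => g.left.appTop.hom b) = g.left.appTop.hom a := by
  have h := conj_appTop i (1 : Y ⟶ Red.DS S M) g a
  rw [MonObj.one_comp, inv_one, _root_.one_mul, _root_.mul_one, ev_eq_sum, DSPts.char_one] at h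
  simpa using h.symm

/-- **points killing the weights commute** -/
theorem commute_of_kills {Y : Over S} (t : Y ⟶ Red.DS S M) (g : Y ⟶ G)
    (h : ∀ (a : Γ(G.left, ⊤)) (m : Multiplicative M),
      g.left.appTop.hom ((co i a).coeff m) = 0 ∨ DSPts.char t m = 1) :
    (t ≫ i) * g = g * (t ≫ i) := by
  rw [← mul_inv_eq_iff_eq_mul]
  refine Over.OverMorphism.ext (ext_of_isAffine (CommRingCat.hom_ext (RingHom.ext fun a => ?_)))
  rw [conj_appTop, ev_eq_sum, ← sum_co i g a]
  refine Finsupp.sum_congr fun m _ => ?_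
  rcases h a m with h' | h' <;> simp [h']

/-- **a central subgroup kills the weights** -/
theorem weight_kills {M' : Type} [AddCommGroup M'] (φ : M →+ M') {Y₀ : Over S} [IsAffine Y₀.left]
    (hc : ∀ (Y : Over S) (_ : Y ⟶ Y₀) (z : Y ⟶ Red.DS S M') (g : Y ⟶ G),
      (z ≫ Red.DSmap S φ ≫ i) * g = g * (z ≫ Red.DSmap S φ ≫ i))
    (g₀ : Y₀ ⟶ G) (a : Γ(G.left, ⊤)) (m : M) (hm : φ m ≠ 0) :
    g₀.left.appTop.hom ((co i a).coeff (Multiplicative.ofAdd m)) = 0 := by
  classical
  let A₀ := Γ(Y₀.left, ⊤)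
  let C := MonoidAlgebra A₀ (Multiplicative M × Multiplicative M')
  let one' : CommRingCat.of A₀ ⟶ CommRingCat.of C :=
    CommRingCat.ofHom (MonoidAlgebra.singleOneRingHom : A₀ →+* C)
  let Y : Over S := Over.mk (Spec.map one' ≫ Y₀.left.isoSpec.inv ≫ Y₀.hom)
  let q : Y ⟶ Y₀ := Over.homMk (Spec.map one' ≫ Y₀.left.isoSpec.inv) (Category.assoc _ _ _)
  let γ : C →+* Γ(Y.left, ⊤) := (Scheme.ΓSpecIso (CommRingCat.of C)).inv.hom
  have hγ : Function.Injective γ := ((Scheme.ΓSpecIso (CommRingCat.of C)).symm.commRingCatIsoToRingEquiv).injective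
  let t : Y ⟶ Red.DS S M := DSPts.pt (γ.toMonoidHom.comp
    ((MonoidAlgebra.of A₀ _).comp (MonoidHom.inl (Multiplicative M) (Multiplicative M'))))
  let z : Y ⟶ Red.DS S M' := DSPts.pt (γ.toMonoidHom.comp
    ((MonoidAlgebra.of A₀ _).comp (MonoidHom.inr (Multiplicative M) (Multiplicative M'))))
  let z' : Y ⟶ Red.DS S M := z ≫ Red.DSmap S φ
  have hz' : DSPts.char z' = γ.toMonoidHom.comp ((MonoidAlgebra.of A₀ _).comp
      ((MonoidHom.inr (Multiplicative M) (Multiplicative M')).comp φ.toMultiplicative)) := by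
    rw [show z' = z ≫ Red.DSmap S φ from rfl, SplitSub.char_DSmap, DSPts.char_pt]
    rfl
  let g : Y ⟶ G := q ≫ g₀
  have hq : ∀ x : Γ(Y₀.left, ⊤), q.left.appTop.hom x = γ (MonoidAlgebra.single 1 x) := fun x => by
    have h2 : q.left.appTop = one' ≫ (Scheme.ΓSpecIso (CommRingCat.of C)).inv := by
      have e : (Spec.map one' ≫ Y₀.left.isoSpec.inv) ≫ Y₀.left.toSpecΓ = Spec.map one' := by
        rw [Category.assoc, show Y₀.left.isoSpec.inv ≫ Y₀.left.toSpecΓ = 𝟙 _ from Y₀.left.isoSpec.inv_hom_id]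
        exact Category.comp_id _
      have e2 := congrArg Scheme.Hom.appTop e
      rw [Scheme.Hom.comp_appTop, Scheme.toSpecΓ_appTop] at e2
      rw [Scheme.ΓSpecIso_inv_naturality, ← cancel_epi (Scheme.ΓSpecIso (CommRingCat.of A₀)).hom, Iso.hom_inv_id_assoc]
      exact e2
    exact congrArg (fun f => f.hom x) h2
  have key : ((t * z') ≫ i) * g * ((t * z') ≫ i)⁻¹ = (t ≫ i) * g * (t ≫ i)⁻¹ := by
    rw [MonObj.mul_comp, _root_.mul_inv_rev,
      show (t ≫ i) * (z' ≫ i) * g = (t ≫ i) * g * (z' ≫ i) by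
        rw [_root_.mul_assoc, _root_.mul_assoc]
        simp only [z', Category.assoc]
        rw [hc Y q z g]]
    group
  have h := congrArg (fun f => f.left.appTop.hom a) key
  simp only [conj_appTop, ev_eq_sum, DSPts.char_mul, MonoidHom.mul_apply, hz', t, DSPts.char_pt] at h
  simp only [g, Over.comp_left, Scheme.Hom.comp_appTop, CommRingCat.comp_apply, hq, RingHom.toMonoidHom_eq_coe,
    MonoidHom.coe_comp, MonoidHom.coe_coe, Function.comp_apply, MonoidAlgebra.of_apply] at h
  simp only [← map_mul, Finsupp.sum, ← map_sum, MonoidHom.inl_apply,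
    MonoidHom.inr_apply] at h
  have h₂ := hγ h
  have e1 : ∀ (x : Multiplicative M) (y : Multiplicative M') (b : A₀),
      (MonoidAlgebra.single 1 b * (MonoidAlgebra.single (x, 1) 1 * MonoidAlgebra.single (1, y) 1) :
        MonoidAlgebra A₀ (Multiplicative M × Multiplicative M')) = MonoidAlgebra.single (x, y) b := by
    intro x y b; simp [MonoidAlgebra.single_mul_single]
  have e2 : ∀ (x : Multiplicative M) (b : A₀),
      (MonoidAlgebra.single 1 b * MonoidAlgebra.single (x, 1) 1 :
        MonoidAlgebra A₀ (Multiplicative M × Multiplicative M')) = MonoidAlgebra.single (x, 1) b := by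
    intro x b; simp [MonoidAlgebra.single_mul_single]
  rw [Finset.sum_congr rfl fun x _ => e1 x _ _, Finset.sum_congr rfl fun x _ => e2 x _] at h₂
  have h' := congrArg (fun x : MonoidAlgebra A₀ (Multiplicative M × Multiplicative M') =>
    x.coeff (Multiplicative.ofAdd m, Multiplicative.ofAdd (φ m))) h₂
  have hne : Multiplicative.ofAdd (φ m) ≠ (1 : Multiplicative M') := fun e => hm (Multiplicative.ofAdd.injective e)
  simp only [MonoidAlgebra.coeff_sum, Finsupp.coe_finsetSum, Finset.sum_apply, MonoidAlgebra.coeff_single,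
    Finsupp.single_apply, Prod.mk.injEq] at h'
  rw [Finset.sum_eq_single (Multiplicative.ofAdd m), Finset.sum_eq_zero] at h'
  · simpa using h'
  · intro x _
    rw [if_neg]
    rintro ⟨rfl, e⟩
    exact hne e.symm
  · intro x _ hx
    rw [if_neg fun e => hx e.1]
  · intro hx
    simp [Finsupp.notMem_support_iff.1 hx]

end Groth.L08.TorusWeights
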