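import Groth.Agent.L08.TorusWeights.Reductive
import Groth.Agent.L08.TorusWeights.Radical
import Groth.Agent.L08.Borel.SelfCentral
import Groth.Agent.L08.Borel.SmoothDim
import Groth.Agent.L08.Borel.FlatNhd
import Groth.Agent.L24.TorusField.Criteria

/-!
# A self-centralising torus stays one on a neighbourhood
-/

set_option autoImplicit false
set_option backward.isDefEq.respectTransparency.types false
set_option linter.style.haveILetI false
set_option linter.unusedSectionVars false

universe u

open CategoryTheory CategoryTheory.Limits MonoidalCategory CartesianMonoidalCategory MonObj GrpObj AlgebraicGeometry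

noncomputable section

namespace Groth.L08.TorusWeights

variable {S : Scheme.{u}}

/-- over an algebraically closed field: a torus with the dimension of its centralizer is the centralizer -/
theorem isIso_and_max_of_dim {k : Type u} [Field k] [IsAlgClosed k] {G T Z : Over (Spec (CommRingCat.of k))}
    [GrpObj G] [GrpObj T] [GrpObj Z] [IsAffine G.left] [Smooth G.hom] [ConnectedSpace G.left] [Smooth Z.hom]
    (i : T ⟶ G) [IsMonHom i] [Mono i] (hT : Red.IsTorus T) {z : Z ⟶ G} (hz : Red.IsCentralizerOf i z)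
    (f : T ⟶ Z) (hf : f ≫ z = i)
    (hd : topologicalKrullDim ↥T.left = topologicalKrullDim ↥Z.left) : IsIso f ∧ AGF.IsMaxTorus i := by
  haveI : QuasiCompact G.hom := quasiCompact_of_compactSpace _
  haveI : IsSeparated G.hom := inferInstance
  haveI := hz.1; haveI := hz.2.1
  haveI := Borel.isClosedImmersion_centralizer hT hz
  haveI : ConnectedSpace Z.left := Groth.L25.Dyn.connectedSpace_centralizer G T i hT Z z hz
  obtain ⟨hTa, hTs, -, -, -⟩ := Borel.torus_props hT
  haveI := hTa; haveI := hTs
  haveI : IsMonHom f := isMonHom_of_mono f z i hf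
  haveI : Mono f := by haveI : Mono (f ≫ z) := hf.symm ▸ inferInstance; exact mono_of_mono f z
  haveI : IsClosedImmersion (f.left ≫ z.left) := by
    rw [← Over.comp_left, hf]
    exact Groth.L25.MonoClosed.isClosedImmersion_of_mono (Groth.L25.Locus.isMultTypeFT_of_isTorus hT) i
  haveI : IsClosedImmersion f.left := IsClosedImmersion.of_comp f.left z.left
  exact ⟨Groth.L19.AlgGrpBasic.isIso_of_dim_eq f hd, Borel.isMaxTorus_of_cent_dim i hT hz hd⟩

/-- dimensions of iterated base changes -/
theorem dim_bcComp {U : Scheme.{u}} (j : U ⟶ S) {K : Type u} [Field K] (b : Spec (CommRingCat.of K) ⟶ U) (X : Over S) :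
    topologicalKrullDim ↥(Red.bc b (Red.bc j X)).left = topologicalKrullDim ↥(Red.bc (b ≫ j) X).left :=
  IsHomeomorph.topologicalKrullDim_eq _
    (Scheme.homeoOfIso ((Over.forget _).mapIso (ActBC.bcCompIso b j X rfl))).isHomeomorph

/-- **a self-centralising torus stays one on a neighbourhood** -/
theorem exists_nhd_selfCentral {G T Z : Over S} [GrpObj G] [GrpObj T] [GrpObj Z] [Smooth G.hom] [IsAffineHom G.hom]
    (hconn : ∀ s : S, _root_.IsConnected (G.hom.base ⁻¹' {s})) (i : T ⟶ G) [IsMonHom i] [Mono i]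
    (hT : Red.IsTorus T) (z : Z ⟶ G) (hz : Red.IsCentralizerOf i z) (f : T ⟶ Z) (hf : f ≫ z = i) (s : S)
    (hs : Red.IsReductiveOver (AlgebraicClosure (S.residueField s)) (Red.geomFibre s G))
    (hTs : Red.IsMaximalTorus ((Over.pullback (Red.geomPt s)).map i)) :
    ∃ U : S.Opens, s ∈ U ∧ IsIso ((Over.pullback U.ι).map f) ∧ Red.IsMaximalTorus ((Over.pullback U.ι).map i) := by
  haveI := hz.1; haveI := hz.2.1
  haveI : IsMonHom f := isMonHom_of_mono f z i hf
  haveI : Mono f := by haveI : Mono (f ≫ z) := hf.symm ▸ inferInstance; exact mono_of_mono f z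
  haveI : Smooth T.hom := Borel.smooth_of_isTorus hT
  haveI : Smooth Z.hom := by
    obtain ⟨Z₀, _, z₀, hz₀, -, hZ₀⟩ := Groth.L25.Locus.exists_smooth_centralizer
      (Groth.L25.Locus.locally_of_multTypeFT (Groth.L25.Locus.isMultTypeFT_of_isTorus hT)) i
    haveI := hZ₀
    obtain ⟨e, -, -, -, -⟩ := exists_iso_centralizer hz hz₀
    haveI : IsIso e.hom := e.isIso_hom
    haveI : IsIso e.hom.left := inferInstanceAs (IsIso ((Over.forget _).map e.hom))
    rw [← Over.w e.hom]
    infer_instance
  obtain ⟨U₁, n, hsU₁, hn⟩ := Borel.exists_open_fibre_dim T s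
  obtain ⟨U₂, m, hsU₂, hm⟩ := Borel.exists_open_fibre_dim Z s
  -- the two dimensions agree
  let θ := Red.geomPt s
  haveI : IsMonHom ((Over.pullback θ).map i) := Groth.L25.MonoClosed.isMonHom_pullbackMap _ _
  have hmax := Groth.L24.TorusField.isMaxTorus_of_isMaximalTorus_field hTs
  have hc := selfCentral_of_reductiveOver hs hmax
  have hd : topologicalKrullDim ↥(Red.bc θ T).left = topologicalKrullDim ↥(Red.bc θ Z).left :=
    Borel.dim_eq_of_selfCentral ((Over.pullback θ).map i) (Groth.L25.Locus.isTorus_bc hT θ)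
      (Borel.isCentralizerOf_bc θ hz) fun X g hg => by
        obtain ⟨t, ht⟩ := (hc.2.2 X g).2 hg
        exact ⟨t, ht.symm⟩
  have hnm : (n : WithBot ℕ∞) = (m : WithBot ℕ∞) := by
    rw [← hn _ θ (by rw [Borel.geomPt_apply]; exact hsU₁), ← hm _ θ (by rw [Borel.geomPt_apply]; exact hsU₂)]
    exact hd
  refine ⟨U₁ ⊓ U₂, ⟨hsU₁, hsU₂⟩, ?_⟩
  let U : S.Opens := U₁ ⊓ U₂
  let G' := Red.bc U.ι G
  haveI : IsMonHom ((Over.pullback U.ι).map i) := Groth.L25.MonoClosed.isMonHom_pullbackMap _ _
  haveI : Mono ((Over.pullback U.ι).map i) := Functor.map_mono _ _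
  haveI : Mono ((Over.pullback U.ι).map f) := Functor.map_mono _ _
  haveI : Smooth G'.hom := inferInstanceAs (Smooth (pullback.snd G.hom U.ι))
  haveI : IsAffineHom G'.hom := MorphismProperty.pullback_snd (P := @IsAffineHom) G.hom U.ι inferInstance
  haveI : Smooth (Red.bc U.ι T).hom := inferInstanceAs (Smooth (pullback.snd T.hom U.ι))
  haveI : Smooth (Red.bc U.ι Z).hom := inferInstanceAs (Smooth (pullback.snd Z.hom U.ι))
  have hconn' := Groth.L25.Extension.isConnected_fibre_bc U.ι G hconn
  have key : ∀ u : (U : Scheme.{u}),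
      IsIso ((Over.pullback (Red.geomPt u)).map ((Over.pullback U.ι).map f)) ∧
        AGF.IsMaxTorus ((Over.pullback (Red.geomPt u)).map ((Over.pullback U.ι).map i)) := fun u => by
    let b := Red.geomPt u
    haveI : Smooth (Red.bc b G').hom := inferInstanceAs (Smooth (pullback.snd G'.hom b))
    haveI : IsAffineHom (Red.bc b G').hom := MorphismProperty.pullback_snd (P := @IsAffineHom) G'.hom b inferInstance
    haveI : IsAffine (Red.bc b G').left := isAffine_of_isAffineHom (Red.bc b G').hom
    haveI : ConnectedSpace (Red.bc b G').left := Borel.connectedSpace_bc_point G' hconn' b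
    haveI : Smooth (Red.bc b (Red.bc U.ι Z)).hom := inferInstanceAs (Smooth (pullback.snd (Red.bc U.ι Z).hom b))
    haveI : IsMonHom ((Over.pullback b).map ((Over.pullback U.ι).map i)) :=
      Groth.L25.MonoClosed.isMonHom_pullbackMap _ _
    haveI : Mono ((Over.pullback b).map ((Over.pullback U.ι).map i)) := Functor.map_mono _ _
    refine isIso_and_max_of_dim _ (Groth.L25.Locus.isTorus_bc (Groth.L25.Locus.isTorus_bc hT U.ι) b)
      (Borel.isCentralizerOf_bc b (Borel.isCentralizerOf_bc U.ι hz)) _
      (by rw [← Functor.map_comp, ← Functor.map_comp, hf]) ?_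
    have hbU : (b ≫ U.ι) (IsLocalRing.closedPoint _) ∈ U := by
      rw [Scheme.Hom.comp_apply]
      exact (b (IsLocalRing.closedPoint _)).2
    rw [dim_bcComp, dim_bcComp, hn _ _ hbU.1, hm _ _ hbU.2, hnm]
  refine ⟨Borel.isIso_of_geomFibres _ fun u => (key u).1, inferInstance, inferInstance,
    Groth.L25.Locus.isTorus_bc hT U.ι, fun u => (key u).2.2.2.2⟩

end Groth.L08.TorusWeights
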