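import Groth.Agent.L08.TorusWeights.Reductive
import Groth.Agent.L14.Luna.CentRed
import Groth.Agent.L25.Locus.Transporter
import Groth.Prelude.Def_RedSub

/-!
# Centralizers of subtori in reductive groups
-/

set_option autoImplicit false
set_option backward.isDefEq.respectTransparency.types false
set_option linter.style.haveILetI false
universe u

open CategoryTheory CategoryTheory.Limits MonoidalCategory CartesianMonoidalCategory MonObj GrpObj AlgebraicGeometry

noncomputable section

namespace Groth.L08.TorusWeights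

variable {S : Scheme.{u}}

/-- a centralizer of a subtorus of a reductive group over an algebraically closed field contains a maximal torus -/
theorem exists_maxTorus_centralizer {k : Type u} [Field k] [IsAlgClosed k]
    {G Q C : Over (Spec (CommRingCat.of k))} [GrpObj G] [GrpObj Q] [GrpObj C] (hG : Red.IsReductiveOver k G)
    (q : Q ⟶ G) [IsMonHom q] [Mono q] (hQ : Red.IsTorus Q) {c : C ⟶ G} (hc : Red.IsCentralizerOf q c) :
    ∃ (T : Over (Spec (CommRingCat.of k))) (_ : GrpObj T) (t : T ⟶ C),
      IsMonHom t ∧ Red.IsMaximalTorus (t ≫ c) := by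
  haveI := hG.1; haveI := hG.2.1
  haveI := hc.1; haveI := hc.2.1
  obtain ⟨T, gT, iT, hT, f, hf⟩ := Groth.L14.Luna.exists_maxTorus_ge q hQ
  haveI := hT.1
  obtain ⟨-, -, -, -, hcomm⟩ := Borel.torus_props hT.2.2.1
  obtain ⟨t, ht⟩ := (hc.2.2 T iT).2 fun X' x h => by
    rw [← hf, ← Category.assoc, ← MonObj.mul_comp, ← MonObj.mul_comp, hcomm]
  exact ⟨T, gT, t, Borel.isMonHom_lift_mono c iT t ht, ht.symm ▸ Borel.isMaximalTorus_of_isMaxTorus hT⟩

/-- **the centralizer of a subtorus of a reductive group is reductive of type (R)** -/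
theorem exists_centralizer_reductive {G Q : Over S} [GrpObj G] [GrpObj Q] (hG : Red.IsReductive G) (q : Q ⟶ G)
    [IsMonHom q] [Mono q] (hQ : Red.IsTorus Q) :
    ∃ (Z : Over S) (_ : GrpObj Z) (z : Z ⟶ G), Red.IsCentralizerOf q z ∧ RedSub.IsTypeR z ∧ Red.IsReductive Z := by
  haveI := hG.1; haveI := hG.2.1
  obtain ⟨Z, gZ, z, hz, hzc, hZs⟩ := Groth.L25.Locus.exists_smooth_centralizer
    (Groth.L25.Locus.locally_of_multTypeFT (Groth.L25.Locus.isMultTypeFT_of_isTorus hQ)) q
  haveI := hz.1; haveI := hz.2.1; haveI := hzc; haveI := hZs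
  haveI : IsAffineHom Z.hom := by rw [← Over.w z]; infer_instance
  have hred : Red.IsReductive Z := ⟨inferInstance, hZs, fun s => by
    haveI : IsMonHom ((Over.pullback (Red.geomPt s)).map q) := Groth.L25.MonoClosed.isMonHom_pullbackMap _ _
    haveI : Mono ((Over.pullback (Red.geomPt s)).map q) := Functor.map_mono _ _
    exact Groth.L14.Luna.isReductiveOver_centralizer (hG.2.2 s) (Groth.L25.Locus.isTorus_bc hQ _)
      (Borel.isCentralizerOf_bc (Red.geomPt s) hz)⟩
  refine ⟨Z, gZ, z, hz, ⟨⟨hz.1, inferInstance⟩, hZs, inferInstance, isConnected_of_isReductive hred, fun s => ?_⟩, hred⟩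
  haveI : IsMonHom ((Over.pullback (Red.geomPt s)).map q) := Groth.L25.MonoClosed.isMonHom_pullbackMap _ _
  haveI : Mono ((Over.pullback (Red.geomPt s)).map q) := Functor.map_mono _ _
  exact exists_maxTorus_centralizer (hG.2.2 s) _ (Groth.L25.Locus.isTorus_bc hQ _)
    (Borel.isCentralizerOf_bc (Red.geomPt s) hz)

end Groth.L08.TorusWeights
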