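import Groth.Agent.L08.Borel.MaxToriConj
import Groth.Agent.L08.Borel.MaxTorusNonsmooth
import Groth.Agent.L08.Borel.SendsIntoSmooth
import Groth.Agent.L08.Borel.Quot
import Groth.Agent.L25.Locus.Conjugacy
import Groth.Agent.L08.Borel.CartanNhd
import Groth.Agent.L08.Borel.RedRankTorus

/-!
# Maximal tori inside parabolic subgroups
-/

set_option autoImplicit false
set_option backward.isDefEq.respectTransparency.types false
set_option linter.style.haveILetI false
universe u

open CategoryTheory CategoryTheory.Limits MonoidalCategory CartesianMonoidalCategory MonObj GrpObj AlgebraicGeometry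

noncomputable section

namespace Groth.L08.TorusWeights

open Groth.L25

variable {S : Scheme.{u}}

/-- inner automorphisms -/
theorem exists_innerIso {G : Over S} [GrpObj G] (g : 𝟙_ (Over S) ⟶ G) :
    ∃ σ : G ≅ G, IsMonHom σ.hom ∧ ∀ {X : Over S} (i : X ⟶ G), i ≫ σ.hom = (toUnit X ≫ g) * i * (toUnit X ≫ g)⁻¹ := by
  let c : (𝟙_ (Over S) ⟶ G) → (G ⟶ G) := fun a => (toUnit G ≫ a) * 𝟙 G * (toUnit G ≫ a)⁻¹
  have hc : ∀ (a : 𝟙_ (Over S) ⟶ G) {X : Over S} (i : X ⟶ G),
      i ≫ c a = (toUnit X ≫ a) * i * (toUnit X ≫ a)⁻¹ := fun a X i => by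
    simp only [c, MonObj.comp_mul, GrpObj.comp_inv, ← Category.assoc, Category.comp_id,
      toUnit_unique (i ≫ toUnit G) (toUnit X)]
  refine ⟨⟨c g, c g⁻¹, ?_, ?_⟩, Bridge.isMonHom_of_mul _ fun X x y => ?_, fun i => hc g i⟩
  · rw [hc]
    show (toUnit G ≫ g⁻¹) * ((toUnit G ≫ g) * 𝟙 G * (toUnit G ≫ g)⁻¹) * (toUnit G ≫ g⁻¹)⁻¹ = 𝟙 G
    rw [GrpObj.comp_inv]
    group
  · rw [hc]
    show (toUnit G ≫ g) * ((toUnit G ≫ g⁻¹) * 𝟙 G * (toUnit G ≫ g⁻¹)⁻¹) * (toUnit G ≫ g)⁻¹ = 𝟙 G
    rw [GrpObj.comp_inv]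
    group
  · show (x * y) ≫ c g = (x ≫ c g) * (y ≫ c g)
    simp only [hc]
    group

/-- every geometric fibre of the subgroup contains a maximal torus of the group -/
def HasMaxTorusFibres {G P : Over S} [GrpObj G] (p : P ⟶ G) : Prop :=
  ∀ s : S, ∃ (T : Over (Spec (CommRingCat.of (AlgebraicClosure (S.residueField s))))) (_ : GrpObj T)
    (t : T ⟶ Red.geomFibre s P), AGF.IsMaxTorus (t ≫ (Over.pullback (Red.geomPt s)).map p)

/-- parabolic subgroups contain maximal tori on the geometric fibres -/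
theorem hasMaxTorusFibres_of_parabolic {G P : Over S} [GrpObj G] [GrpObj P] [Smooth G.hom] [IsAffineHom G.hom]
    (hconn : ∀ s : S, _root_.IsConnected (G.hom.base ⁻¹' {s})) (p : P ⟶ G) (hP : Red.IsParabolic p) :
    HasMaxTorusFibres p := fun s => by
  haveI : Smooth (Red.geomFibre s G).hom := inferInstanceAs (Smooth (pullback.snd G.hom (Red.geomPt s)))
  haveI : QuasiCompact (Red.geomFibre s G).hom :=
    inferInstanceAs (QuasiCompact (pullback.snd G.hom (Red.geomPt s)))
  haveI : ConnectedSpace (Red.geomFibre s G).left := Borel.connectedSpace_bc_point G hconn (Red.geomPt s)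
  obtain ⟨-, -, -, B, gB, b, hB⟩ := hP.2.2.2 s
  haveI := hB.1; haveI := hB.2.1; haveI := hB.2.2.1; haveI := hB.2.2.2.1
  haveI : QuasiCompact B.hom := by rw [← Over.w (b ≫ (Over.pullback (Red.geomPt s)).map p)]; infer_instance
  obtain ⟨T', gT', t', ht'⟩ := Borel.exists_maxTorus_gen B
  exact ⟨T', gT', t' ≫ b, by rw [Category.assoc]; exact Borel.isMaxTorus_comp_borel hB ht'⟩

/-- the property is stable under base change -/
theorem hasMaxTorusFibres_bc {G P : Over S} [GrpObj G] [Smooth G.hom] [QuasiCompact G.hom] {p : P ⟶ G}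
    (h : HasMaxTorusFibres p) {S' : Scheme.{u}} (j : S' ⟶ S) : HasMaxTorusFibres ((Over.pullback j).map p) :=
  fun q => by
  obtain ⟨θ, hθ⟩ := Borel.exists_geomPt_map j q
  obtain ⟨T, gT, t, ht⟩ := h (j q)
  haveI : Smooth (Red.geomFibre (j q) G).hom := inferInstanceAs (Smooth (pullback.snd G.hom (Red.geomPt (j q))))
  haveI : QuasiCompact (Red.geomFibre (j q) G).hom :=
    inferInstanceAs (QuasiCompact (pullback.snd G.hom (Red.geomPt (j q))))
  haveI := (Borel.isMonHom_fibreIso j θ hθ G).2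
  haveI : IsMonHom (Borel.fibreIso j θ hθ G).symm.hom := (Borel.isMonHom_fibreIso j θ hθ G).2
  refine ⟨_, inferInstance, (Over.pullback θ).map t ≫ (Borel.fibreIso j θ hθ P).inv, ?_⟩
  have e := Borel.isMaxTorus_comp_iso (Borel.isMaxTorus_bc_field ht θ) (Borel.fibreIso j θ hθ G).symm
  convert e using 1
  rw [Iso.symm_hom, Functor.map_comp, Category.assoc, Category.assoc]
  congr 1
  rw [Iso.inv_comp_eq, ← Category.assoc, Iso.eq_comp_inv]
  exact (Borel.fibreIso_naturality j θ hθ p)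

/-- **parabolic subgroups contain maximal tori after an etale cover** -/
theorem exists_maxTorus_in_parabolic {G P T : Over S} [GrpObj G] [GrpObj P] [GrpObj T] [Smooth G.hom]
    [IsAffineHom G.hom] {i : T ⟶ G} (hT : Red.IsMaximalTorus i) (p : P ⟶ G) [IsMonHom p] [IsClosedImmersion p.left]
    [Smooth P.hom] (hP : HasMaxTorusFibres p) :
    ∃ (S' : Scheme.{u}) (F : S' ⟶ S), Etale F ∧ Surjective F ∧
      ∃ t : Red.bc F T ⟶ Red.bc F P, IsMonHom t ∧ Red.IsMaximalTorus (t ≫ (Over.pullback F).map p) := by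
  haveI := hT.1; haveI := hT.2.1
  haveI : Mono p := Over.mono_of_mono_left p
  haveI : LocallyOfFiniteType G.hom := inferInstance
  haveI : QuasiCompact G.hom := inferInstance
  have hl := Locus.locally_of_multTypeFT (Locus.isMultTypeFT_of_isTorus hT.2.2.1)
  haveI : LocallyOfFinitePresentation p.left := by
    haveI : LocallyOfFinitePresentation (p.left ≫ G.hom) := by rw [Over.w p]; infer_instance
    exact Groth.L20.locallyOfFinitePresentation_of_comp p.left G.hom
  obtain ⟨W, w, hw, hwl, hW⟩ := Locus.exists_transporter_into hl i p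
  haveI := hw
  haveI := hwl inferInstance
  haveI : Mono w := Over.mono_of_mono_left w
  haveI : Smooth W.hom := Locus.smooth_sends_smooth hl i p w fun T' x => hW T' x
  have hpt : ∀ s : S, Nonempty (Over.mk (Red.geomPt s) ⟶ W) := by
    intro s
    haveI : IsMonHom ((Over.pullback (Red.geomPt s)).map i) := MonoClosed.isMonHom_pullbackMap _ _
    haveI : IsMonHom ((Over.pullback (Red.geomPt s)).map p) := MonoClosed.isMonHom_pullbackMap _ _
    haveI : Smooth (Red.geomFibre s G).hom := inferInstanceAs (Smooth (pullback.snd G.hom (Red.geomPt s)))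
    haveI : QuasiCompact (Red.geomFibre s G).hom :=
      inferInstanceAs (QuasiCompact (pullback.snd G.hom (Red.geomPt s)))
    obtain ⟨T', gT', t', ht'⟩ := hP s
    have hi : AGF.IsMaxTorus ((Over.pullback (Red.geomPt s)).map i) :=
      Borel.isMaxTorus_of_isMaximalTorus (Borel.isMaximalTorus_bc_fp hT (Red.geomPt s))
    obtain ⟨g, f, hf⟩ := Borel.exists_maxTorus_conj_any hi ht'
    let j := Red.geomPt s
    let e : Over.mk j ⟶ Over.mk ((𝟙_ (Over _)).hom ≫ j) := Over.homMk (𝟙 _) (by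
      show 𝟙 _ ≫ 𝟙 _ ≫ j = j
      rw [Category.id_comp, Category.id_comp])
    let x : Over.mk j ⟶ G := e ≫ NilAction.toBase j g
    have hx : ∀ (Y : Over _), NilAction.toBase j (toUnit Y ≫ g) =
        (Over.homMk Y.hom rfl : Over.mk (Y.hom ≫ j) ⟶ Over.mk j) ≫ x := fun Y => by
      apply Over.OverMorphism.ext
      show ((toUnit Y).left ≫ g.left) ≫ _ = Y.hom ≫ 𝟙 _ ≫ g.left ≫ _
      rw [show (toUnit Y).left = Y.hom from (Category.comp_id _).symm.trans (Over.w (toUnit Y)), Category.id_comp,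
        Category.assoc]
    have hs : Locus.Sends i p (Over.mk j) x := Borel.exists_sends_of_fibre j (i₁ := i) (i₂ := p) g (f.hom ≫ t')
      (by rw [Category.assoc]; exact hf) x hx
    exact ⟨((hW _ x).2 hs).choose⟩
  obtain ⟨S', F, hF, hFs, ⟨q⟩⟩ := Borel.exists_etale_cover_point W hpt
  haveI := hF
  obtain ⟨φ, hφ⟩ := Locus.exists_half F i p ((hW _ (q ≫ w)).1 ⟨q, rfl⟩)
  obtain ⟨σ, hσm, hσ⟩ := exists_innerIso (Locus.sectionOf F (q ≫ w))
  haveI := hσm
  have e : φ ≫ (Over.pullback F).map p = (Over.pullback F).map i ≫ σ.hom := by rw [hσ]; exact hφ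
  have hmax : Red.IsMaximalTorus (φ ≫ (Over.pullback F).map p) :=
    e ▸ Borel.isMaximalTorus_comp_iso (Borel.isMaximalTorus_bc_fp hT F) σ
  haveI : IsMonHom ((Over.pullback F).map p) := MonoClosed.isMonHom_pullbackMap _ _
  haveI : Mono ((Over.pullback F).map p) := Functor.map_mono _ _
  haveI := hmax.1
  exact ⟨S', F, hF, hFs, φ, Borel.isMonHom_lift_mono ((Over.pullback F).map p) _ φ rfl, hmax⟩

end Groth.L08.TorusWeights
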