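import Groth.Agent.L08.TorusWeights.Centre
import Groth.Agent.L08.TorusWeights.Parabolic
import Groth.Agent.L08.TorusWeights.Reductive

/-!
# The centre lies in maximal tori and parabolics
-/

set_option autoImplicit false
set_option backward.isDefEq.respectTransparency.types false
set_option linter.style.haveILetI false
universe u

open CategoryTheory CategoryTheory.Limits MonoidalCategory CartesianMonoidalCategory MonObj GrpObj AlgebraicGeometry

noncomputable section

namespace Groth.L08.TorusWeights

open Groth.L25

variable {S : Scheme.{u}}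

/-- the pull back of a point to a cover -/
def pullPt {S' : Scheme.{u}} (F : S' ⟶ S) (X : Over S) :
    Over.mk ((Over.mk (pullback.snd X.hom F) : Over S').hom ≫ F) ⟶ X :=
  Over.homMk (pullback.fst X.hom F) pullback.condition

/-- factorisation through a monomorphism descends along etale covers -/
theorem exists_fac_of_cover {P G X : Over S} (p : P ⟶ G) [Mono p] (g : X ⟶ G) {S' : Scheme.{u}} (F : S' ⟶ S)
    [Etale F] [Surjective F] (w : (Over.mk (pullback.snd X.hom F) : Over S') ⟶ Red.bc F P)
    (hw : w ≫ (Over.pullback F).map p = NilAction.ofBase F (pullPt F X ≫ g)) :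
    ∃ h : X ⟶ P, h ≫ p = g := by
  have e : NilAction.toBase F w ≫ p = pullPt F X ≫ g := by
    rw [← SplitSub.toBase_map, hw, NilAction.toBase_ofBase]
  haveI : Etale (pullPt F X).left := inferInstanceAs (Etale (pullback.fst X.hom F))
  haveI : Surjective (pullPt F X).left := inferInstanceAs (Surjective (pullback.fst X.hom F))
  obtain ⟨h, hh⟩ := Borel.exists_desc_fppf (pullPt F X) (NilAction.toBase F w) fun a b eab => by
    rw [← cancel_mono p, Category.assoc, Category.assoc, e, reassoc_of% eab]
  haveI : Epi (pullPt F X).left := Flat.epi_of_flat_of_surjective (pullPt F X).left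
  haveI : Epi (pullPt F X) := Over.epi_of_epi_left _
  exact ⟨h, by rw [← cancel_epi (pullPt F X), reassoc_of% hh, e]⟩

variable {G : Over S} [GrpObj G]

/-- **central points lie in every maximal torus, in unipotent rank zero** -/
theorem exists_fac_maxTorus_of_central [Smooth G.hom] [IsAffineHom G.hom] (h0 : SGA3x.UnipotentRankZero G)
    {S' : Scheme.{u}} (F : S' ⟶ S) {T : Over S'} [GrpObj T] {i : T ⟶ Red.bc F G} (hi : Red.IsMaximalTorus i)
    {Q : Over S'} {g : Over.mk (Q.hom ≫ F) ⟶ G} (hg : IsCentralPt g) :
    ∃ w : Q ⟶ T, w ≫ i = NilAction.ofBase F g := by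
  haveI : Smooth (Red.bc F G).hom := inferInstanceAs (Smooth (pullback.snd G.hom F))
  haveI : IsAffineHom (Red.bc F G).hom := MorphismProperty.pullback_snd (P := @IsAffineHom) G.hom F inferInstance
  exact exists_fac_selfCentral (unipotentRankZero_bc F h0) hi _ fun X' x t => isCentralPt_ofBase F hg X' x _

/-- **the centre lies in every parabolic subgroup** -/
theorem exists_fac_parabolic (hG : Red.IsReductive G) {P : Over S} [GrpObj P] (p : P ⟶ G) (hP : Red.IsParabolic p)
    {X : Over S} (g : X ⟶ G) (hg : IsCentralPt g) : ∃ f : X ⟶ P, f ≫ p = g := by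
  haveI := hG.1; haveI := hG.2.1
  haveI := hP.1; haveI := hP.2.1; haveI := hP.2.2.1
  haveI : Mono p := Over.mono_of_mono_left p
  haveI : QuasiCompact G.hom := inferInstance
  obtain ⟨S₁, f, hf, hfs, T, gT, i, hi⟩ := Borel.hasMaxTorusEtaleLocally (redRankLocallyConstant_of_isReductive hG)
  haveI := hf; haveI := hfs
  haveI : Smooth (Red.bc f G).hom := inferInstanceAs (Smooth (pullback.snd G.hom f))
  haveI : IsAffineHom (Red.bc f G).hom := MorphismProperty.pullback_snd (P := @IsAffineHom) G.hom f inferInstance
  haveI : Smooth (Red.bc f P).hom := inferInstanceAs (Smooth (pullback.snd P.hom f))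
  haveI : IsMonHom ((Over.pullback f).map p) := MonoClosed.isMonHom_pullbackMap _ _
  haveI : IsClosedImmersion ((Over.pullback f).map p).left :=
    MorphismProperty.of_isPullback (Groth.L25.SchImage.isPullback_fst_map f p) ‹_›
  obtain ⟨S₂, F, hF, hFs, t, ht, hmax⟩ := exists_maxTorus_in_parabolic hi ((Over.pullback f).map p)
    (hasMaxTorusFibres_bc (hasMaxTorusFibres_of_parabolic (isConnected_of_isReductive hG) p hP) f)
  haveI := hF; haveI := hFs; haveI := ht
  let φ := ActBC.bcCompIso F f G rfl
  let ψ := ActBC.bcCompIso F f P rfl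
  have hmax' := Borel.isMaximalTorus_comp_iso hmax φ
  obtain ⟨w, hw⟩ := exists_fac_maxTorus_of_central (unipotentRankZero_of_isReductive hG) (F ≫ f) hmax'
    (Q := Over.mk (pullback.snd X.hom (F ≫ f))) (isCentralPt_comp hg (pullPt (F ≫ f) X))
  refine exists_fac_of_cover p g (F ≫ f) (w ≫ t ≫ ψ.hom) ?_
  rw [← hw]
  simp only [Category.assoc, φ, ψ, ActBC.bcCompIso_hom_naturality]

end Groth.L08.TorusWeights
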