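import Groth.Agent.L08.TorusWeights.ConjFlat
import Groth.Agent.L08.TorusWeights.MulCover
import Groth.Agent.L08.TorusWeights.CentreIn
import Groth.Agent.L08.Borel.CartanChart

/-!
# A point of a reductive group in all maximal tori, functorially, is central
-/

set_option autoImplicit false
set_option backward.isDefEq.respectTransparency.types false
set_option linter.style.haveILetI false
set_option linter.unusedSectionVars false

universe u

open CategoryTheory CategoryTheory.Limits MonoidalCategory CartesianMonoidalCategory MonObj GrpObj AlgebraicGeometry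
open Groth.L25

noncomputable section

namespace Groth.L08.TorusWeights

variable {S : Scheme.{u}}

/-- commutation with the conjugates of a maximal torus gives centrality -/
theorem commute_of_conjTori {G T X : Over S} [GrpObj G] [GrpObj T] [Smooth G.hom] [IsAffineHom G.hom]
    (hconn : ∀ s : S, _root_.IsConnected (G.hom.base ⁻¹' {s})) (h0 : SGA3x.UnipotentRankZero G) {i : T ⟶ G}
    (hi : Red.IsMaximalTorus i) (g : X ⟶ G)
    (hg : ∀ (X' : Over S) (x : X' ⟶ X) (h : X' ⟶ G) (t : X' ⟶ T),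
      (x ≫ g) * (h * (t ≫ i) * h⁻¹) = (h * (t ≫ i) * h⁻¹) * (x ≫ g))
    {X' : Over S} (x : X' ⟶ X) (h : X' ⟶ G) : (x ≫ g) * h = h * (x ≫ g) := by
  haveI := hi.1; haveI := hi.2.1
  haveI : Smooth T.hom := Borel.smooth_of_isTorus hi.2.2.1
  let Φ : G ⊗ T ⟶ G := fst G T * (snd G T ≫ i) * (fst G T)⁻¹
  haveI hS : Smooth (G ⊗ T).hom := inferInstanceAs (Smooth (pullback.fst G.hom T.hom ≫ G.hom))
  haveI : LocallyOfFinitePresentation Φ.left := by
    haveI : LocallyOfFinitePresentation (Φ.left ≫ G.hom) := by rw [Over.w Φ]; infer_instance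
    exact Groth.L20.locallyOfFinitePresentation_of_comp Φ.left G.hom
  let W : (G ⊗ T).left.Opens := ⟨_, Groth.L20.isOpen_flat_stalkMap Φ.left⟩
  let φ : (W : Scheme.{u}) ⟶ G.left := W.ι ≫ Φ.left
  haveI : Flat φ := Flat.of_stalkMap φ fun z => by
    have e := congrArg CommRingCat.Hom.hom (Scheme.Hom.stalkMap_comp W.ι Φ.left z)
    exact e ▸ RingHom.Flat.comp z.2 (Flat.stalkMap W.ι z)
  let V : G.left.Opens := ⟨Set.range φ, φ.isOpenMap.isOpen_range⟩
  have hV : ∀ s : S, ∃ v ∈ V, G.hom v = s := fun s => by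
    obtain ⟨z, hz, hzf⟩ := exists_flat_point hconn h0 hi s
    exact ⟨Φ.left z, ⟨⟨z, hzf⟩, Scheme.Hom.comp_apply _ _ _⟩, hz⟩
  -- points of the open commute
  have key : ∀ (Y : Over S) (y : Y ⟶ X) (u : Y ⟶ G), (∀ z, u.left z ∈ V) → (y ≫ g) * u = u * (y ≫ g) := by
    intro Y y u hu
    let Wo : Over S := Over.mk (W.ι ≫ (G ⊗ T).hom)
    let j : Wo ⟶ G ⊗ T := Over.homMk W.ι
    haveI : Flat (j ≫ Φ).left := ‹Flat φ›
    haveI : LocallyOfFinitePresentation (j ≫ Φ).left := inferInstanceAs (LocallyOfFinitePresentation (W.ι ≫ Φ.left))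
    obtain ⟨Y', c, w, -, -, -, hc, hw⟩ := exists_cover_lift (j ≫ Φ) u hu
    haveI := hc
    rw [← cancel_epi c, MonObj.comp_mul, MonObj.comp_mul, ← hw, ← Category.assoc c y g]
    have := hg Y' (c ≫ y) (w ≫ j ≫ fst G T) (w ≫ j ≫ snd G T)
    simpa [Φ, MonObj.comp_mul, GrpObj.comp_inv] using this
  obtain ⟨Y, c, a, b, hc, ha, hb, e⟩ := exists_mul_cover hconn V hV h
  haveI := hc
  rw [← cancel_epi c, MonObj.comp_mul, MonObj.comp_mul, e, ← Category.assoc c x g, ← _root_.mul_assoc,
    key Y _ a ha, _root_.mul_assoc, key Y _ b hb, ← _root_.mul_assoc]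

/-- the points of a base change over the base are the points of the scheme -/
def idPt (X : Over S) : X ⟶ Over.mk ((𝟙_ (Over X.left)).hom ≫ X.hom) :=
  Over.homMk (𝟙 X.left) (by
    show 𝟙 X.left ≫ 𝟙 X.left ≫ X.hom = X.hom
    rw [Category.id_comp, Category.id_comp])

/-- a conjugate of a torus point is a section of a maximal torus of the base change -/
theorem exists_conjTorus {G T : Over S} [GrpObj G] [GrpObj T] {i : T ⟶ G} (hi : Red.IsMaximalTorus i)
    [Smooth G.hom] [IsAffineHom G.hom] {X' : Over S} (h : X' ⟶ G) (t : X' ⟶ T) :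
    ∃ (T' : Over X'.left) (_ : GrpObj T') (i' : T' ⟶ Red.bc X'.hom G) (t' : 𝟙_ (Over X'.left) ⟶ T'),
      Red.IsMaximalTorus i' ∧ idPt X' ≫ NilAction.toBase X'.hom (t' ≫ i') = h * (t ≫ i) * h⁻¹ := by
  haveI := hi.1; haveI := hi.2.1
  let r := X'.hom
  haveI : Smooth (Red.bc r G).hom := inferInstanceAs (Smooth (pullback.snd G.hom r))
  haveI : IsAffineHom (Red.bc r G).hom := MorphismProperty.pullback_snd (P := @IsAffineHom) G.hom r inferInstance
  let back : Over.mk ((𝟙_ (Over X'.left)).hom ≫ X'.hom) ⟶ X' :=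
    Over.homMk (𝟙 X'.left) (by show 𝟙 X'.left ≫ X'.hom = 𝟙 X'.left ≫ X'.hom; rfl)
  have hback : idPt X' ≫ back = 𝟙 X' := Over.OverMorphism.ext (Category.id_comp _)
  let σh : 𝟙_ (Over X'.left) ⟶ Red.bc r G := NilAction.ofBase r (back ≫ h)
  let σt : 𝟙_ (Over X'.left) ⟶ Red.bc r T := NilAction.ofBase r (back ≫ t)
  refine ⟨Red.bc r T, inferInstance, _, σt, Borel.isMaximalTorus_conj (Borel.isMaximalTorus_bc hi r) σh, ?_⟩
  simp only [MonObj.comp_mul, GrpObj.comp_inv]
  rw [← Category.assoc σt (toUnit _) σh,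
    show σt ≫ toUnit (Red.bc r T) = 𝟙 (𝟙_ (Over X'.left)) from toUnit_unique _ _, Category.id_comp,
    NilAction.toBase_mul, NilAction.toBase_mul, Borel.toBase_inv, SplitSub.toBase_map]
  have a1 : idPt X' ≫ NilAction.toBase r σh = h := by
    refine (congrArg (idPt X' ≫ ·) (NilAction.toBase_ofBase r (Y := 𝟙_ (Over X'.left)) (back ≫ h))).trans ?_
    rw [← Category.assoc, hback, Category.id_comp]
  have a2 : idPt X' ≫ NilAction.toBase r σt = t := by
    refine (congrArg (idPt X' ≫ ·) (NilAction.toBase_ofBase r (Y := 𝟙_ (Over X'.left)) (back ≫ t))).trans ?_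
    rw [← Category.assoc, hback, Category.id_comp]
  simp only [MonObj.comp_mul, GrpObj.comp_inv, ← Category.assoc]
  rw [a1, a2]

/-- the hypothesis: the point commutes with all points of all maximal tori of all base changes -/
def CommutesAllTori {G X : Over S} [GrpObj G] (g : X ⟶ G) : Prop :=
  ∀ (X' : Over S) (x : X' ⟶ X) (T : Over X'.left) [GrpObj T] (i : T ⟶ Red.bc X'.hom G) (t : 𝟙_ (Over X'.left) ⟶ T),
    Red.IsMaximalTorus i →
      (x ≫ g) * (idPt X' ≫ NilAction.toBase X'.hom (t ≫ i)) = (idPt X' ≫ NilAction.toBase X'.hom (t ≫ i)) * (x ≫ g)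

/-- **a point commuting with all maximal tori of all base changes is central** -/
theorem commute_of_commutesAllTori {G X : Over S} [GrpObj G] (hG : Red.IsReductive G) {g : X ⟶ G}
    (hg : CommutesAllTori g) {X' : Over S} (x : X' ⟶ X) (h : X' ⟶ G) : (x ≫ g) * h = h * (x ≫ g) := by
  haveI := hG.1; haveI := hG.2.1
  haveI : QuasiCompact G.hom := inferInstance
  obtain ⟨S₁, F, hF, hFs, T, gT, i, hi⟩ := Borel.hasMaxTorusEtaleLocally (redRankLocallyConstant_of_isReductive hG)
  haveI := hF; haveI := hFs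
  haveI : Smooth (Red.bc F G).hom := inferInstanceAs (Smooth (pullback.snd G.hom F))
  haveI : IsAffineHom (Red.bc F G).hom := MorphismProperty.pullback_snd (P := @IsAffineHom) G.hom F inferInstance
  let c := pullPt F X'
  haveI : Etale c.left := inferInstanceAs (Etale (pullback.fst X'.hom F))
  haveI : Surjective c.left := inferInstanceAs (Surjective (pullback.fst X'.hom F))
  haveI : Epi c.left := Flat.epi_of_flat_of_surjective c.left
  haveI : Epi c := Over.epi_of_epi_left c
  rw [← cancel_epi c, MonObj.comp_mul, MonObj.comp_mul]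
  let X₁ : Over S₁ := Over.mk (pullback.snd X'.hom F)
  let g₁ : X₁ ⟶ Red.bc F G := NilAction.ofBase F (c ≫ x ≫ g)
  let h₁ : X₁ ⟶ Red.bc F G := NilAction.ofBase F (c ≫ h)
  have e := commute_of_conjTori (Groth.L25.Extension.isConnected_fibre_bc F G (isConnected_of_isReductive hG))
    (unipotentRankZero_bc F (unipotentRankZero_of_isReductive hG)) hi g₁ (fun Z z k τ => by
    obtain ⟨T', gT', i', t', hi', he⟩ := exists_conjTorus hi k τ
    let X₃ : Over S := Over.mk (Z.hom ≫ F)
    let x₃ : X₃ ⟶ X := NilAction.toBase F z ≫ x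
    haveI : IsMonHom (ActBC.bcCompIso Z.hom F G (rfl : Z.hom ≫ F = X₃.hom)).hom := inferInstance
    have h3 := hg X₃ x₃ T' (i' ≫ (ActBC.bcCompIso Z.hom F G (rfl : Z.hom ≫ F = X₃.hom)).hom) t'
      (Groth.L24.TorusField.isMaximalTorus_comp_iso hi' _)
    have e1 : idPt X₃ ≫ NilAction.toBase X₃.hom (t' ≫ i' ≫ (ActBC.bcCompIso Z.hom F G (rfl : Z.hom ≫ F = X₃.hom)).hom) =
        NilAction.toBase F (k * (τ ≫ i) * k⁻¹) := by
      rw [← he]
      apply Over.OverMorphism.ext
      simp only [NilAction.toBase, idPt, Over.homMk_left, Over.comp_left, Category.assoc]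
      exact congrArg (fun m => 𝟙 Z.left ≫ t'.left ≫ i'.left ≫ m)
        (ActBC.bcCompIso_hom_left_fst Z.hom F G rfl)
    have e2 : x₃ ≫ g = NilAction.toBase F (z ≫ g₁) := by
      apply Over.OverMorphism.ext
      simp only [x₃, g₁, NilAction.toBase, NilAction.ofBase, Over.homMk_left, Over.comp_left, Category.assoc,
        pullback.lift_fst]
      rfl
    rw [e1, e2, ← NilAction.toBase_mul, ← NilAction.toBase_mul] at h3
    rw [← NilAction.ofBase_toBase F ((z ≫ g₁) * (k * (τ ≫ i) * k⁻¹)), h3, NilAction.ofBase_toBase])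
    (𝟙 X₁) h₁
  have e' := congrArg (NilAction.toBase F) e
  rw [Category.id_comp, NilAction.toBase_mul, NilAction.toBase_mul, NilAction.toBase_ofBase,
    NilAction.toBase_ofBase] at e'
  exact e'

end Groth.L08.TorusWeights
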