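import Mathlib.LinearAlgebra.TensorProduct.Basis
import Mathlib.RingTheory.TensorProduct.Maps
import Mathlib.LinearAlgebra.Basis.VectorSpace

/-!
# A separating family of rational points stays separating after any extension of scalars
-/

set_option autoImplicit false

universe u

open TensorProduct

noncomputable section

namespace Groth.L08.TorusWeights

variable {k : Type u} [Field k] {A R : Type u} [CommRing A] [Algebra k A] [CommRing R] [Algebra k R]

/-- evaluation of the right factor at a rational point -/
def evalRight (χ : A →ₐ[k] k) : R ⊗[k] A →ₐ[k] R :=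
  (Algebra.TensorProduct.rid k k R).toAlgHom.comp (Algebra.TensorProduct.map (AlgHom.id k R) χ)

@[simp] theorem evalRight_tmul (χ : A →ₐ[k] k) (r : R) (a : A) : evalRight χ (r ⊗ₜ[k] a) = χ a • r := rfl

/-- separating points of `A` separate `R ⊗ A` -/
theorem eq_of_evalRight {D : Set (A →ₐ[k] k)} (hD : ∀ a : A, (∀ χ ∈ D, χ a = 0) → a = 0)
    {z z' : R ⊗[k] A} (h : ∀ χ ∈ D, evalRight χ z = evalRight χ z') : z = z' := by
  let b := Module.Free.chooseBasis k R
  let e := TensorProduct.equivFinsuppOfBasisLeft (N := A) b
  have key : ∀ (w : R ⊗[k] A) (χ : A →ₐ[k] k) i, χ (e w i) = b.repr (evalRight χ w) i := by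
    intro w χ i
    induction w with
    | zero => simp
    | tmul r a =>
      rw [TensorProduct.equivFinsuppOfBasisLeft_apply_tmul_apply, map_smul, evalRight_tmul, map_smul,
        Finsupp.smul_apply, smul_eq_mul, smul_eq_mul, mul_comm]
    | add x y hx hy => simp [map_add, hx, hy]
  refine e.injective (Finsupp.ext fun i => ?_)
  rw [← sub_eq_zero]
  exact hD _ fun χ hχ => by rw [map_sub, key, key, h χ hχ, sub_self]

end Groth.L08.TorusWeights
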