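import Groth.Agent.L08.TorusWeights.GenTori
import Groth.Agent.L08.TorusWeights.Radical
import Groth.Agent.L08.TorusWeights.DensePts
import Groth.Agent.L08.TorusQuot.Affine
import Groth.Agent.L08.HomSpace.Quot

/-!
# The centre of a reductive group over a separably closed field is the intersection of the maximal tori
-/

set_option autoImplicit false
set_option backward.isDefEq.respectTransparency.types false
set_option linter.style.haveILetI false
set_option linter.unusedSectionVars false

universe u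

open CategoryTheory CategoryTheory.Limits MonoidalCategory CartesianMonoidalCategory MonObj GrpObj AlgebraicGeometry
open TensorProduct WithConv
open Groth.L25.Bridge (P)
open Groth.L08.TorusQuot (Pt SP toPt toPt_post post spA ofPt toPt_ofPt)

noncomputable section

namespace Groth.L08.TorusWeights

variable {k : Type u} [Field k]

/-- points of a maximal torus -/
def torusPts {G : Over (Spec (CommRingCat.of k))} [GrpObj G] {A : Type u} [CommRing A] [HopfAlgebra k A]
    (φ : P k A ⟶ G) : Set (A →ₐ[k] k) :=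
  {χ | ∃ (T : Over (Spec (CommRingCat.of k))) (_ : GrpObj T) (i : T ⟶ G) (h : SP k k ⟶ T),
    Red.IsMaximalTorus i ∧ toPt (toConv χ) ≫ φ = h ≫ i}

/-- functions vanishing at the points of all maximal tori are zero -/
theorem eq_zero_of_torusPts [IsSepClosed k] {G : Over (Spec (CommRingCat.of k))} [GrpObj G] (hG : Red.IsReductive G)
    {A : Type u} [CommRing A] [HopfAlgebra k A] (φ : P k A ⟶ G) [IsIso φ] {a : A}
    (ha : ∀ χ ∈ torusPts φ, χ a = 0) : a = 0 := by
  haveI := hG.1; haveI := hG.2.1
  haveI : IsIso φ.left := inferInstanceAs (IsIso ((Over.forget _).map φ))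
  let q : A →+* A ⧸ Ideal.span {a} := Ideal.Quotient.mk _
  let H : Over (Spec (CommRingCat.of k)) := Over.mk (Spec.map (CommRingCat.ofHom q) ≫ (P k A).hom)
  let j : H ⟶ P k A := Over.homMk (Spec.map (CommRingCat.ofHom q)) rfl
  haveI : IsClosedImmersion j.left := IsClosedImmersion.spec_of_surjective _ Ideal.Quotient.mk_surjective
  haveI : IsClosedImmersion (j ≫ φ).left := inferInstanceAs (IsClosedImmersion (j.left ≫ φ.left))
  have hiso : IsIso (j ≫ φ) := by
    letI : GrpObj (P k A) := inferInstance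
    refine isIso_of_maxTori_fac' hG (j ≫ φ) fun T _ iT hT => ?_
    haveI : Smooth T.hom := Groth.L08.Borel.smooth_of_isTorus hT.2.2.1
    refine Groth.L25.PointsDense.factors_of_isIso (K := k) iT (j ≫ φ)
      (fun c _ hc => Groth.L25.PointsDense.isIso_of_smooth T.hom c hc) fun x => ?_
    let h : SP k k ⟶ T := x
    let χ : A →ₐ[k] k := (ofPt (h ≫ iT ≫ inv φ)).ofConv
    have hχ : toPt (toConv χ) ≫ φ = h ≫ iT := by
      rw [WithConv.toConv_ofConv, toPt_ofPt]
      simp
    have h0 : χ a = 0 := ha χ ⟨T, inferInstance, iT, h, hT, hχ⟩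
    let ψ : (A ⧸ Ideal.span {a}) →+* k := Ideal.Quotient.lift (Ideal.span {a}) χ.toRingHom fun y hy => by
      obtain ⟨c, rfl⟩ := Ideal.mem_span_singleton'.1 hy
      simp [h0]
    have hψ : CommRingCat.ofHom q ≫ CommRingCat.ofHom ψ = CommRingCat.ofHom χ.toRingHom := by
      ext y
      rfl
    have e2 : Spec.map (CommRingCat.ofHom ψ) ≫ Spec.map (CommRingCat.ofHom q) = (toPt (toConv χ)).left := by
      rw [← Spec.map_comp, hψ]
      rfl
    refine ⟨Over.homMk (Spec.map (CommRingCat.ofHom ψ)) ?_, ?_⟩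
    · show Spec.map (CommRingCat.ofHom ψ) ≫ Spec.map (CommRingCat.ofHom q) ≫ (P k A).hom = _
      rw [← Category.assoc, e2]
      exact Over.w (toPt (toConv χ))
    · refine Eq.trans ?_ hχ
      rw [← Category.assoc]
      congr 1
      exact Over.OverMorphism.ext e2
  haveI := hiso
  haveI : IsIso j := IsIso.of_isIso_comp_right j φ
  haveI : IsIso (Spec.map (CommRingCat.ofHom q)) := inferInstanceAs (IsIso ((Over.forget _).map j))
  haveI : IsIso (Scheme.Spec.map (CommRingCat.ofHom q).op) := ‹IsIso (Spec.map (CommRingCat.ofHom q))›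
  haveI : IsIso (CommRingCat.ofHom q).op := isIso_of_reflects_iso _ Scheme.Spec
  haveI : IsIso (CommRingCat.ofHom q) := isIso_of_op (CommRingCat.ofHom q)
  have hinj : Function.Injective q := ((ConcreteCategory.bijective_of_isIso (CommRingCat.ofHom q))).1
  exact hinj (by rw [map_zero]; exact Ideal.Quotient.eq_zero_iff_mem.2 (Ideal.mem_span_singleton_self a))

/-- **over a separably closed field a point lying in all maximal tori is central** -/
theorem commute_of_mem_all_tori [IsSepClosed k] {G : Over (Spec (CommRingCat.of k))} [GrpObj G]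
    (hG : Red.IsReductive G) {X : Over (Spec (CommRingCat.of k))} (g : X ⟶ G)
    (hg : ∀ (T : Over (Spec (CommRingCat.of k))) [GrpObj T] (iT : T ⟶ G), Red.IsMaximalTorus iT →
      ∃ t : X ⟶ T, t ≫ iT = g)
    {X' : Over (Spec (CommRingCat.of k))} (x : X' ⟶ X) (h : X' ⟶ G) : (x ≫ g) * h = h * (x ≫ g) := by
  haveI := hG.1; haveI := hG.2.1
  haveI : IsAffine G.left := isAffine_of_isAffineHom G.hom
  obtain ⟨A, _, _, ⟨e⟩⟩ := Groth.L25.Bridge.exists_hopf (R := k) G
  let eh : G ≅ P k A := (Grp.forget _).mapIso e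
  haveI : IsMonHom eh.hom := e.hom.hom.isMonHom_hom
  haveI : IsMonHom eh.inv := e.inv.hom.isMonHom_hom
  refine Groth.L08.HomSpace.hom_ext_affine _ _ fun R _ _ t => ?_
  rw [MonObj.comp_mul, MonObj.comp_mul, ← Category.assoc]
  obtain ⟨g₀, hg₀⟩ : ∃ g₀ : Pt k A R, toPt g₀ ≫ eh.inv = (t ≫ x) ≫ g :=
    ⟨ofPt (((t ≫ x) ≫ g) ≫ eh.hom), by rw [toPt_ofPt]; simp⟩
  obtain ⟨h₀, hh₀⟩ : ∃ h₀ : Pt k A R, toPt h₀ ≫ eh.inv = t ≫ h :=
    ⟨ofPt ((t ≫ h) ≫ eh.hom), by rw [toPt_ofPt]; simp⟩
  have hmul : ∀ (R' : Type u) [CommRing R'] [Algebra k R'] (a b : Pt k A R'),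
      toPt (a * b) ≫ eh.inv = (toPt a ≫ eh.inv) * (toPt b ≫ eh.inv) := fun R' _ _ a b =>
    (congrArg (· ≫ eh.inv) (map_mul (Spec.mapMulEquiv (R := k) (S := A) (T := R')) a b)).trans (MonObj.mul_comp _ _ _)
  suffices e0 : g₀ * h₀ = h₀ * g₀ by
    rw [← hg₀, ← hh₀, ← hmul, ← hmul, e0]
  -- commutation with the rational points of the maximal tori
  have hD : ∀ χ ∈ torusPts eh.inv, g₀ * post (Algebra.ofId k R) (toConv χ) = post (Algebra.ofId k R) (toConv χ) * g₀ := by
    rintro χ ⟨T, gT, i, s, hi, hχ⟩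
    haveI := hi.1
    obtain ⟨τ, hτ⟩ := hg T i hi
    refine (Spec.mapMulEquiv (R := k) (S := A) (T := R)).injective ?_
    show toPt _ = toPt _
    have hs : toPt (post (Algebra.ofId k R) (toConv χ)) ≫ eh.inv = (spA (Algebra.ofId k R) ≫ s) ≫ i := by
      rw [toPt_post, Category.assoc, hχ, Category.assoc]
    have hgτ : toPt g₀ ≫ eh.inv = ((t ≫ x) ≫ τ) ≫ i := by rw [hg₀, Category.assoc (t ≫ x), hτ]
    rw [← cancel_mono eh.inv, hmul, hmul, hgτ, hs, ← MonObj.mul_comp, ← MonObj.mul_comp, torus_comm hi.2.2.1]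
  -- the universal commutation
  let il : R →ₐ[k] R ⊗[k] A := Algebra.TensorProduct.includeLeft
  let univ : Pt k A (R ⊗[k] A) := toConv Algebra.TensorProduct.includeRight
  have hU : post il g₀ * univ = univ * post il g₀ := by
    refine WithConv.ofConv_injective (AlgHom.ext fun b => ?_)
    refine eq_of_evalRight (D := torusPts eh.inv) (fun a ha => eq_zero_of_torusPts hG eh.inv ha) fun χ hχ => ?_
    have e1 : (evalRight χ).comp il = AlgHom.id k R := AlgHom.ext fun r => by simp [il]
    have e2 : post (evalRight χ) univ = post (Algebra.ofId k R) (toConv χ) :=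
      WithConv.ofConv_injective (AlgHom.ext fun a => by simp [univ, Algebra.algebraMap_eq_smul_one, Algebra.ofId_apply])
    have := congrArg (fun w : Pt k A R => w.ofConv b)
      (show post (evalRight χ) (post il g₀ * univ) = post (evalRight χ) (univ * post il g₀) by
        rw [map_mul, map_mul, Groth.L08.TorusQuot.post_post, e1, e2]
        exact hD χ hχ)
    exact this
  let ev : R ⊗[k] A →ₐ[k] R := Algebra.TensorProduct.lift (AlgHom.id k R) h₀.ofConv fun r a => Commute.all _ _
  have := congrArg (post ev) hU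
  rw [map_mul, map_mul, Groth.L08.TorusQuot.post_post] at this
  have e3 : ev.comp il = AlgHom.id k R := AlgHom.ext fun r => by simp [ev, il]
  have e4 : post ev univ = h₀ := WithConv.ofConv_injective (AlgHom.ext fun a => by simp [ev, univ])
  rw [e3, e4] at this
  exact this

end Groth.L08.TorusWeights
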