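import Groth.Agent.S4698
import Groth.Agent.L22.WeakAssPoints
import Groth.Agent.L16.CohClosedPush
import Mathlib.AlgebraicGeometry.Morphisms.Flat

/-!
# Generic flatness in morphism form, with small imports
-/

set_option autoImplicit false
set_option backward.isDefEq.respectTransparency.types false
set_option linter.style.haveILetI false

universe u

open CategoryTheory CategoryTheory.Limits AlgebraicGeometry

noncomputable section

namespace Groth.L08.TorusWeights

variable {X Y : Scheme.{u}} (f : X ⟶ Y)

/-- flatness of the structure module at a point is flatness of the stalk map -/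
theorem flat_stalkMap_of_flatOverAt {x : X} (h : FlatMod.IsFlatOverAt f (Coh.structureModule X) x) :
    (f.stalkMap x).hom.Flat := by
  letI : Algebra (Y.presheaf.stalk (f x)) (X.presheaf.stalk x) := (f.stalkMap x).hom.toAlgebra
  letI := FlatMod.moduleStalkOver f (Coh.structureModule X) x
  let σ : X.presheaf.stalk x ≃ₗ[X.presheaf.stalk x] (Coh.structureModule X).presheaf.stalk x := LinearEquiv.ofBijective
    (LinearMap.toSpanSingleton (X.presheaf.stalk x) ((Coh.structureModule X).presheaf.stalk x)
      (Groth.L22.oneGerm x))
    ⟨(injective_iff_map_eq_zero _).2 fun a ha => Groth.L22.eq_zero_of_smul_oneGerm ha,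
      Groth.L22.stalk_smul_oneGerm_surjective x⟩
  let e : ((Coh.structureModule X).presheaf.stalk x : Type u) ≃ₗ[Y.presheaf.stalk (f x)]
      (X.presheaf.stalk x : Type u) :=
    { σ.symm.toAddEquiv with
      map_smul' := fun a m => σ.symm.map_smul ((f.stalkMap x).hom a) m }
  exact @Module.Flat.of_linearEquiv _ _ _ _ _ _ _ _ h e.symm

/-- generic flatness of stalks -/
theorem exists_open_flat_stalk [IsIntegral Y] [IsLocallyNoetherian Y] [LocallyOfFiniteType f] [QuasiCompact f] :
    ∃ U : Y.Opens, (U : Set Y).Nonempty ∧ ∀ x : X, f x ∈ U → (f.stalkMap x).hom.Flat := by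
  haveI : IsLocallyNoetherian X := LocallyOfFiniteType.isLocallyNoetherian f
  obtain ⟨U, hU, hfl⟩ := Groth.Agent.S4698.result f (Coh.structureModule X) Groth.L16.CohClosedPush.isCoh_structure
  exact ⟨U, hU, fun x hx => flat_stalkMap_of_flatOverAt f (hfl x hx)⟩

end Groth.L08.TorusWeights
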