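import Groth.Agent.L08.TorusWeights.Reductive
import Groth.Agent.L08.Borel.NormOpen
import Groth.Agent.L08.Borel.Cover
import Groth.Agent.L08.Borel.MaxTorusBC
import Groth.Agent.L08.TorusWeights.GenFlat
import Groth.Agent.L20.FlatStalk
import Groth.Agent.L24.TorusField.Criteria
import Groth.Agent.L25.NilAction

/-!
# The conjugation map of a maximal torus is flat somewhere in each fibre
-/

set_option autoImplicit false
set_option backward.isDefEq.respectTransparency.types false
set_option linter.style.haveILetI false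
set_option linter.unusedSectionVars false

universe u

open CategoryTheory CategoryTheory.Limits MonoidalCategory CartesianMonoidalCategory MonObj GrpObj AlgebraicGeometry
open Groth.L25

noncomputable section

namespace Groth.L08.TorusWeights

/-- flatness at a point of a fibre gives flatness at the point -/
theorem flat_stalk_of_fibre_point {X Y S : Scheme.{u}} (f : X ⟶ Y) (g : Y ⟶ S)
    [LocallyOfFinitePresentation (f ≫ g)] [LocallyOfFiniteType g] [Flat (f ≫ g)] (s : S) (z : (f ≫ g).fiber s)
    (h : ((MoreMor.fiberMap f g s).stalkMap z).hom.Flat) :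
    (f.stalkMap ((f ≫ g).fiberι s z)).hom.Flat := by
  have hs : g (f ((f ≫ g).fiberι s z)) = s := by
    have h1 : (f ≫ g) ((f ≫ g).fiberι s z) = s := by
      rw [← Scheme.Hom.comp_apply, (f ≫ g).fiber_fac s, Scheme.Hom.comp_apply]
      exact S.fromSpecResidueField_apply _ _
    rwa [Scheme.Hom.comp_apply] at h1
  generalize hx : (f ≫ g).fiberι s z = x at hs ⊢
  subst hs
  refine Groth.L20.flat_stalkMap_of_fiberMap f g x (Flat.stalkMap _ x) ?_
  have e : (f ≫ g).asFiber x = z := by
    apply ((f ≫ g).fiberι (g (f x))).isEmbedding.injective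
    refine Eq.trans ?_ hx.symm
    exact (f ≫ g).fiberι_asFiber x
  rw [e]
  exact h

/-- **the conjugation map of a maximal torus is flat somewhere over every point** -/
theorem exists_flat_point {S : Scheme.{u}} {G T : Over S} [GrpObj G] [GrpObj T] [Smooth G.hom] [IsAffineHom G.hom]
    (hconn : ∀ s : S, _root_.IsConnected (G.hom.base ⁻¹' {s})) (h0 : SGA3x.UnipotentRankZero G)
    {i : T ⟶ G} (hi : Red.IsMaximalTorus i) (s : S) :
    ∃ z : (G ⊗ T).left,
      G.hom ((fst G T * (snd G T ≫ i) * (fst G T)⁻¹).left z) = s ∧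
      ((fst G T * (snd G T ≫ i) * (fst G T)⁻¹).left.stalkMap z).hom.Flat := by
  let Φ : G ⊗ T ⟶ G := fst G T * (snd G T ≫ i) * (fst G T)⁻¹
  show ∃ z : (G ⊗ T).left, G.hom (Φ.left z) = s ∧ (Φ.left.stalkMap z).hom.Flat
  haveI := hi.1; haveI := hi.2.1
  haveI : Smooth T.hom := Borel.smooth_of_isTorus hi.2.2.1
  haveI : IsAffineHom T.hom := (Locus.isMultTypeFT_of_isTorus hi.2.2.1 |> Groth.L25.Central.isAffineHom_of_multTypeFT)
  haveI hS : Smooth (G ⊗ T).hom := inferInstanceAs (Smooth (pullback.fst G.hom T.hom ≫ G.hom))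
  haveI : IsAffineHom (pullback.fst G.hom T.hom) := MorphismProperty.pullback_fst (P := @IsAffineHom) G.hom T.hom inferInstance
  haveI hA : IsAffineHom (G ⊗ T).hom := inferInstanceAs (IsAffineHom (pullback.fst G.hom T.hom ≫ G.hom))
  haveI : Smooth (Φ.left ≫ G.hom) := by rw [Over.w Φ]; exact hS
  haveI : IsAffineHom (Φ.left ≫ G.hom) := by rw [Over.w Φ]; exact hA
  -- the fibre is integral
  let θ := Red.geomPt s
  let res : Spec (CommRingCat.of (S.residueField s)) ⟶ S := S.fromSpecResidueField s
  haveI : Smooth (Red.bc res G).hom := inferInstanceAs (Smooth (pullback.snd G.hom res))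
  haveI : ConnectedSpace ↥(Red.bc res G).left :=
    Borel.connectedSpace_bc_point (K := S.residueField s) G hconn res
  haveI : LocallyOfFiniteType (Red.bc res G).hom := inferInstance
  haveI : IsLocallyNoetherian (Red.bc res G).left := LocallyOfFiniteType.isLocallyNoetherian (Red.bc res G).hom
  haveI : IrreducibleSpace (Red.bc res G).left := Groth.L25.Component.irreducibleSpace _
  haveI : IsReduced (Red.bc res G).left :=
    Groth.Agent.AV.isReduced_of_smooth_field (k := S.residueField s) (Red.bc res G).hom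
  haveI : IrreducibleSpace ↥(G.hom.fiber s) := ‹IrreducibleSpace (Red.bc res G).left›
  haveI : IsReduced (G.hom.fiber s) := ‹IsReduced (Red.bc res G).left›
  haveI : AlgebraicGeometry.IsIntegral (G.hom.fiber s) := isIntegral_of_irreducibleSpace_of_isReduced _
  haveI : IsLocallyNoetherian (G.hom.fiber s) := ‹IsLocallyNoetherian (Red.bc res G).left›
  let F := MoreMor.fiberMap Φ.left G.hom s
  have hFw : F ≫ G.hom.fiberToSpecResidueField s = (Φ.left ≫ G.hom).fiberToSpecResidueField s :=
    pullback.lift_snd _ _ _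
  haveI : LocallyOfFiniteType F := by
    haveI : LocallyOfFiniteType (F ≫ G.hom.fiberToSpecResidueField s) := by
      rw [hFw]; exact inferInstanceAs (LocallyOfFiniteType (pullback.snd (Φ.left ≫ G.hom) res))
    exact locallyOfFiniteType_of_comp F (G.hom.fiberToSpecResidueField s)
  haveI : QuasiCompact F := by
    haveI : IsSeparated (G.hom.fiberToSpecResidueField s) := inferInstanceAs (IsSeparated (pullback.snd G.hom res))
    haveI : QuasiCompact (F ≫ G.hom.fiberToSpecResidueField s) := by
      rw [hFw]; exact inferInstanceAs (QuasiCompact (pullback.snd (Φ.left ≫ G.hom) res))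
    exact QuasiCompact.of_comp F (G.hom.fiberToSpecResidueField s)
  obtain ⟨U, hU, hUf⟩ := exists_open_flat_stalk F
  -- a conjugate of a torus point in it
  haveI : IsAffineHom (Red.bc θ G).hom := MorphismProperty.pullback_snd (P := @IsAffineHom) G.hom θ inferInstance
  haveI : IsAffine (Red.bc θ G).left := isAffine_of_isAffineHom (Red.bc θ G).hom
  haveI : Smooth (Red.bc θ G).hom := inferInstanceAs (Smooth (pullback.snd G.hom θ))
  haveI : ConnectedSpace (Red.bc θ G).left := Borel.connectedSpace_bc_point G hconn θ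
  haveI : LocallyOfFiniteType (Red.bc θ G).hom := inferInstance
  haveI : IsLocallyNoetherian (Red.bc θ G).left := LocallyOfFiniteType.isLocallyNoetherian (Red.bc θ G).hom
  haveI : IrreducibleSpace (Red.bc θ G).left := Groth.L25.Component.irreducibleSpace _
  have hmax := Groth.L24.TorusField.isMaxTorus_of_isMaximalTorus_field (Borel.isMaximalTorus_bc hi θ)
  obtain ⟨U₁, hU₁, hU₁y⟩ := Borel.exists_open_cartan hmax (h0 s _ _ (Borel.isMaximalTorus_bc hi θ))
  let a : Spec (CommRingCat.of (AlgebraicClosure (S.residueField s))) ⟶ Spec (S.residueField s) :=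
    Spec.map (CommRingCat.ofHom (algebraMap (S.residueField s) (AlgebraicClosure (S.residueField s))))
  let bN : (Red.bc θ G).left ⟶ G.hom.fiber s :=
    pullback.lift (pullback.fst _ _) (pullback.snd _ _ ≫ a) (by rw [pullback.condition, Category.assoc]; rfl)
  have hb : bN ≫ G.hom.fiberι s = pullback.fst G.hom θ := pullback.lift_fst _ _ _
  have hO : ((bN ⁻¹ᵁ U : (Red.bc θ G).left.Opens) : Set (Red.bc θ G).left).Nonempty := by
    obtain ⟨v, hv⟩ := hU
    have hvs : G.hom (G.hom.fiberι s v) = s := by
      rw [← Scheme.Hom.comp_apply, G.hom.fiber_fac s, Scheme.Hom.comp_apply]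
      exact S.fromSpecResidueField_apply _ _
    obtain ⟨z, hz, -⟩ := Scheme.Pullback.exists_preimage_pullback (f := G.hom) (g := θ) (G.hom.fiberι s v)
      (IsLocalRing.closedPoint _) (hvs.trans (Borel.geomPt_apply s _).symm)
    refine ⟨z, ?_⟩
    show bN z ∈ U
    have : bN z = v := (G.hom.fiberι s).isEmbedding.injective (by rw [← Scheme.Hom.comp_apply, hb]; exact hz)
    rw [this]; exact hv
  obtain ⟨x, hx⟩ := Borel.exists_pt_mem (X := Red.bc θ G)
    (O := ((bN ⁻¹ᵁ U ⊓ U₁ : (Red.bc θ G).left.Opens) : Set (Red.bc θ G).left))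
    (bN ⁻¹ᵁ U ⊓ U₁).2.isLocallyClosed (nonempty_preirreducible_inter (bN ⁻¹ᵁ U).2 U₁.2 hO hU₁)
  obtain ⟨g, y, e⟩ := hU₁y x hx.2
  let A := 𝟙_ (Over (Spec (CommRingCat.of (AlgebraicClosure (S.residueField s)))))
  let h : Over.mk (A.hom ≫ θ) ⟶ G ⊗ T := lift (NilAction.toBase θ g) (NilAction.toBase θ y)
  have e1 : h ≫ Φ = NilAction.toBase θ x := by
    rw [← e, NilAction.toBase_mul, NilAction.toBase_mul, Borel.toBase_inv, SplitSub.toBase_map]
    simp only [h, Φ, MonObj.comp_mul, GrpObj.comp_inv, lift_fst, lift_snd_assoc]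
  let w : Spec (CommRingCat.of (AlgebraicClosure (S.residueField s))) ⟶ (Φ.left ≫ G.hom).fiber s :=
    pullback.lift h.left a (by
      rw [Over.w Φ]
      exact (Over.w h).trans ((Category.id_comp _).trans rfl))
  have hw : w ≫ F = x.left ≫ bN := by
    apply pullback.hom_ext
    · have e2 : w ≫ (Φ.left ≫ G.hom).fiberι s = h.left := pullback.lift_fst _ _ _
      have e3 : F ≫ G.hom.fiberι s = (Φ.left ≫ G.hom).fiberι s ≫ Φ.left := pullback.lift_fst _ _ _
      refine (Category.assoc w F _).trans ((congrArg (w ≫ ·) e3).trans ?_)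
      refine ((Category.assoc _ _ _).symm.trans (congrArg (· ≫ Φ.left) e2)).trans ?_
      refine Eq.trans ?_ ((congrArg (x.left ≫ ·) hb).symm.trans (Category.assoc x.left bN _).symm)
      exact congrArg (fun m => m.left) e1
    · have e2 : w ≫ (Φ.left ≫ G.hom).fiberToSpecResidueField s = a := pullback.lift_snd _ _ _
      have e3 : bN ≫ G.hom.fiberToSpecResidueField s = pullback.snd G.hom θ ≫ a := pullback.lift_snd _ _ _
      refine (Category.assoc w F _).trans ((congrArg (w ≫ ·) hFw).trans (e2.trans ?_))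
      refine Eq.trans ?_ ((congrArg (x.left ≫ ·) e3).symm.trans (Category.assoc x.left bN _).symm)
      exact ((Category.id_comp a).symm.trans (congrArg (· ≫ a) (Over.w x).symm)).trans (Category.assoc _ _ _)
  let z₀ := w (IsLocalRing.closedPoint _)
  have hz₀ : F z₀ ∈ U := by
    rw [show F z₀ = bN (x.left (IsLocalRing.closedPoint _)) from by
      rw [← Scheme.Hom.comp_apply, hw, Scheme.Hom.comp_apply]]
    exact hx.1
  have hfl : (F.stalkMap z₀).hom.Flat := hUf z₀ hz₀
  refine ⟨_, ?_, flat_stalk_of_fibre_point Φ.left G.hom s z₀ hfl⟩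
  rw [← Scheme.Hom.comp_apply, ← Scheme.Hom.comp_apply, (Φ.left ≫ G.hom).fiber_fac s, Scheme.Hom.comp_apply]
  exact S.fromSpecResidueField_apply _ _

end Groth.L08.TorusWeights
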