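import Groth.Agent.L08.Borel.CentTorus
import Groth.Agent.L08.Borel.CommTorusGlobal
import Groth.Agent.L25.MultTypeBC

/-!
# Universality of a central subgroup tested on geometric points
-/

set_option autoImplicit false
set_option backward.isDefEq.respectTransparency.types false
set_option linter.style.haveILetI false
set_option linter.unusedSectionVars false
universe u

open CategoryTheory CategoryTheory.Limits MonoidalCategory CartesianMonoidalCategory MonObj GrpObj AlgebraicGeometry

noncomputable section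

namespace Groth.L08.TorusWeights

open Groth.L25

variable {S S' : Scheme.{u}}

/-- centrality -/
def IsCentralHom {H G : Over S} [GrpObj G] (v : H ⟶ G) : Prop :=
  ∀ (X : Over S) (x : X ⟶ H) (g : X ⟶ G), (x ≫ v) * g = g * (x ≫ v)

/-- universality at a geometric point -/
def FieldUnivAt {D G : Over S} [GrpObj G] (d : D ⟶ G) {K : Type u} [Field K]
    (b : Spec (CommRingCat.of K) ⟶ S) : Prop :=
  ∀ (H : Over (Spec (CommRingCat.of K))) [GrpObj H] (v : H ⟶ Red.bc b G) [IsMonHom v],
    SGA3x.IsMultTypeFT H → IsCentralHom v → ∃ w : H ⟶ Red.bc b D, w ≫ (Over.pullback b).map d = v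

/-- universality at all geometric points -/
def FieldUniv {D G : Over S} [GrpObj G] (d : D ⟶ G) : Prop :=
  ∀ (K : Type u) [Field K] [IsAlgClosed K] (b : Spec (CommRingCat.of K) ⟶ S), FieldUnivAt d b

theorem isCentralHom_map {H G : Over S} [GrpObj G] {v : H ⟶ G} (h : IsCentralHom v) (j : S' ⟶ S) :
    IsCentralHom ((Over.pullback j).map v) := fun X x g => by
  apply SplitSub.toBase_injective j
  rw [NilAction.toBase_mul, NilAction.toBase_mul, SplitSub.toBase_map]
  exact h _ _ _

theorem isCentralHom_comp {H G G' : Over S} [GrpObj G] [GrpObj G'] {v : H ⟶ G} (h : IsCentralHom v)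
    (φ : G ≅ G') [IsMonHom φ.hom] : IsCentralHom (v ≫ φ.hom) := fun X x g => by
  have e : g = (g ≫ φ.inv) ≫ φ.hom := by rw [Category.assoc, φ.inv_hom_id, Category.comp_id]
  rw [← Category.assoc, e, ← MonObj.mul_comp, ← MonObj.mul_comp, h]

theorem FieldUnivAt.of_iso {D D' G : Over S} [GrpObj G] {d : D ⟶ G} {d' : D' ⟶ G} (e : D ⟶ D')
    (he : e ≫ d' = d) {K : Type u} [Field K] {b : Spec (CommRingCat.of K) ⟶ S} (h : FieldUnivAt d b) :
    FieldUnivAt d' b := fun H _ v _ hH hv => by
  obtain ⟨w, hw⟩ := h H v hH hv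
  exact ⟨w ≫ (Over.pullback b).map e, by rw [Category.assoc, ← Functor.map_comp, he, hw]⟩

theorem FieldUnivAt.comp_iso {D G G' : Over S} [GrpObj G] [GrpObj G'] {d : D ⟶ G} (φ : G ≅ G') [IsMonHom φ.hom]
    {K : Type u} [Field K] {b : Spec (CommRingCat.of K) ⟶ S} (h : FieldUnivAt d b) :
    FieldUnivAt (d ≫ φ.hom) b := fun H _ v _ hH hv => by
  haveI : IsMonHom φ.inv := inferInstance
  haveI : IsMonHom ((Over.pullback b).map φ.hom) := MonoClosed.isMonHom_pullbackMap _ _
  haveI : IsMonHom ((Over.pullback b).map φ.inv) := MonoClosed.isMonHom_pullbackMap _ _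
  let ψ := (Over.pullback b).mapIso φ
  haveI : IsMonHom ψ.symm.hom := inferInstanceAs (IsMonHom ((Over.pullback b).map φ.inv))
  obtain ⟨w, hw⟩ := h H (v ≫ ψ.symm.hom) hH (isCentralHom_comp hv ψ.symm)
  refine ⟨w, ?_⟩
  rw [Functor.map_comp, ← Category.assoc, hw, Category.assoc]
  show v ≫ ψ.inv ≫ ψ.hom = v
  rw [Iso.inv_hom_id, Category.comp_id]

/-- universality at a point of a base change -/
theorem FieldUnivAt.map {D G : Over S} [GrpObj G] {d : D ⟶ G} {j : S' ⟶ S} {K : Type u} [Field K]
    {b' : Spec (CommRingCat.of K) ⟶ S'} {b : Spec (CommRingCat.of K) ⟶ S} (hb : b' ≫ j = b)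
    (h : FieldUnivAt d b) : FieldUnivAt ((Over.pullback j).map d) b' := fun H _ v _ hH hv => by
  obtain ⟨w, hw⟩ := h H (v ≫ (ActBC.bcCompIso b' j G hb).hom) hH (isCentralHom_comp hv _)
  refine ⟨w ≫ (ActBC.bcCompIso b' j D hb).inv, ?_⟩
  rw [← cancel_mono (ActBC.bcCompIso b' j G hb).hom, Category.assoc, Category.assoc,
    ActBC.bcCompIso_hom_naturality, Iso.inv_hom_id_assoc, hw]

/-- universality at a point lifting to a base change -/
theorem FieldUnivAt.of_map {D G : Over S} [GrpObj G] {d : D ⟶ G} {j : S' ⟶ S} {K : Type u} [Field K]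
    {b' : Spec (CommRingCat.of K) ⟶ S'} {b : Spec (CommRingCat.of K) ⟶ S} (hb : b' ≫ j = b)
    (h : FieldUnivAt ((Over.pullback j).map d) b') : FieldUnivAt d b := fun H _ v _ hH hv => by
  haveI : IsMonHom (ActBC.bcCompIso b' j G hb).symm.hom := inferInstanceAs (IsMonHom (ActBC.bcCompIso b' j G hb).inv)
  obtain ⟨w, hw⟩ := h H (v ≫ (ActBC.bcCompIso b' j G hb).symm.hom) hH (isCentralHom_comp hv _)
  refine ⟨w ≫ (ActBC.bcCompIso b' j D hb).hom, ?_⟩
  rw [Category.assoc, ← ActBC.bcCompIso_hom_naturality, ← Category.assoc, hw, Category.assoc, Iso.symm_hom,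
    Iso.inv_hom_id, Category.comp_id]

/-- **universality on geometric points gives universality** -/
theorem FieldUniv.univ {D G : Over S} [GrpObj D] [GrpObj G] [LocallyOfFinitePresentation G.hom] [IsAffineHom G.hom]
    {d : D ⟶ G} [IsMonHom d] [Mono d] (hD : SGA3x.IsMultTypeFT D) (h : FieldUniv d)
    (f : S' ⟶ S) (H : Over S') [GrpObj H] (v : H ⟶ Red.bc f G) [IsMonHom v]
    (hH : SGA3x.IsMultTypeFT H) (hv : IsCentralHom v) :
    ∃ w : H ⟶ Red.bc f D, w ≫ (Over.pullback f).map d = v := by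
  haveI : LocallyOfFinitePresentation (Red.bc f G).hom :=
    inferInstanceAs (LocallyOfFinitePresentation (pullback.snd G.hom f))
  haveI : IsAffineHom (Red.bc f G).hom := MorphismProperty.pullback_snd (P := @IsAffineHom) G.hom f inferInstance
  haveI : IsMonHom ((Over.pullback f).map d) := MonoClosed.isMonHom_pullbackMap _ _
  haveI : Mono ((Over.pullback f).map d) := Functor.map_mono _ _
  have hD' := MultTypeBC.isMultTypeFT_bc hD f
  haveI := MonoClosed.isClosedImmersion_of_mono hD' ((Over.pullback f).map d)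
  refine Borel.exists_fac_of_fibres hH hD' v ((Over.pullback f).map d) (fun s X w hw x => ?_)
    fun s X w hw g x => (hv X x g).symm
  obtain ⟨ψ, hψ⟩ : ∃ ψ : Red.geomFibre s H ⟶ Red.geomFibre s (Red.bc f D),
      ψ ≫ (Over.pullback (Red.geomPt s)).map ((Over.pullback f).map d) = (Over.pullback (Red.geomPt s)).map v := by
    haveI : IsMonHom ((Over.pullback (Red.geomPt s)).map v) := MonoClosed.isMonHom_pullbackMap _ _
    have h1 : FieldUnivAt ((Over.pullback f).map d) (Red.geomPt s) :=
      FieldUnivAt.map (j := f) (b' := Red.geomPt s) (b := Red.geomPt s ≫ f) rfl (h _ _)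
    exact h1 (Red.geomFibre s H) ((Over.pullback (Red.geomPt s)).map v) (MultTypeBC.isMultTypeFT_bc hH _) (isCentralHom_map hv _)
  exact Borel.fac_of_geomFibre v ((Over.pullback f).map d) s ψ hψ X w hw x

end Groth.L08.TorusWeights
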