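import Groth.Agent.L08.TorusWeights.Reductive
import Groth.Agent.L08.Borel.Cover
import Groth.Agent.L08.Borel.MaxTorusBC
import Groth.Agent.L08.Borel.CentKernel
import Groth.Agent.L24.TorusField.Criteria
import Groth.Agent.L24.TorusField.NonAffine
import Groth.Agent.L25.PointsDense
import Groth.Agent.L25.SplitSub.Quot
import Groth.Agent.L25.NilAction

/-!
# Maximal tori generate a reductive group over a separably closed field
-/

set_option autoImplicit false
set_option backward.isDefEq.respectTransparency.types false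
set_option linter.style.haveILetI false
set_option linter.unusedSectionVars false

universe u

open CategoryTheory CategoryTheory.Limits MonoidalCategory CartesianMonoidalCategory MonObj GrpObj AlgebraicGeometry
open Groth.L25

noncomputable section

namespace Groth.L08.TorusWeights

variable {k : Type u} [Field k]

/-- the conjugation map of a maximal torus lands in a closed subgroup containing all maximal tori -/
theorem exists_conjMap_fac [IsSepClosed k] {G T H : Over (Spec (CommRingCat.of k))} [GrpObj G] [GrpObj T]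
    [Smooth G.hom] {i : T ⟶ G} (hi : Red.IsMaximalTorus i) (iH : H ⟶ G) [IsClosedImmersion iH.left]
    (hH : ∀ (T : Over (Spec (CommRingCat.of k))) [GrpObj T] (iT : T ⟶ G), Red.IsMaximalTorus iT →
      ∃ t : T ⟶ H, t ≫ iH = iT) :
    ∃ w : G ⊗ T ⟶ H, w ≫ iH = fst G T * (snd G T ≫ i) * (fst G T)⁻¹ := by
  haveI : Smooth T.hom := Groth.L08.Borel.smooth_of_isTorus hi.2.2.1
  haveI : Smooth (G ⊗ T).hom := by
    haveI : Smooth (pullback.fst G.hom T.hom) := inferInstance
    exact inferInstanceAs (Smooth (pullback.fst G.hom T.hom ≫ G.hom))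
  let SK : Over (Spec (CommRingCat.of k)) := Over.mk (Spec.map (CommRingCat.ofHom (algebraMap k k)))
  have hSK : SK.hom = 𝟙 _ := Spec.map_id _
  let e : 𝟙_ (Over (Spec (CommRingCat.of k))) ⟶ SK := Over.homMk (𝟙 _) (by rw [hSK]; exact Category.id_comp _)
  have he : toUnit SK ≫ e = 𝟙 SK := Over.OverMorphism.ext ((Category.comp_id _).trans hSK)
  refine Groth.L25.PointsDense.factors_of_isIso (K := k) _ iH
    (fun c _ hc => Groth.L25.PointsDense.isIso_of_smooth (G ⊗ T).hom c hc) fun x => ?_
  obtain ⟨t, ht⟩ := hH T _ (Borel.isMaximalTorus_conj hi (e ≫ x ≫ fst G T))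
  refine ⟨x ≫ snd G T ≫ t, ?_⟩
  have e1 : (x ≫ snd G T) ≫ toUnit T ≫ e ≫ x ≫ fst G T = x ≫ fst G T := by
    rw [← Category.assoc, toUnit_unique ((x ≫ snd G T) ≫ toUnit T) (toUnit SK), ← Category.assoc, he,
      Category.id_comp]
  simp only [Category.assoc, ht, MonObj.comp_mul, GrpObj.comp_inv]
  simp only [← Category.assoc] at e1 ⊢
  rw [e1]

/-- **maximal tori generate a reductive group over a separably closed field** -/
theorem isIso_of_maxTori_fac' [IsSepClosed k] {G H : Over (Spec (CommRingCat.of k))} [GrpObj G]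
    (hG : Red.IsReductive G) (iH : H ⟶ G) [IsClosedImmersion iH.left]
    (hH : ∀ (T : Over (Spec (CommRingCat.of k))) [GrpObj T] (iT : T ⟶ G), Red.IsMaximalTorus iT →
      ∃ t : T ⟶ H, t ≫ iH = iT) : IsIso iH := by
  haveI := hG.1; haveI := hG.2.1
  obtain ⟨T, gT, i, hi⟩ := Groth.L24.TorusField.exists_maximalTorus G
  obtain ⟨w, hw⟩ := exists_conjMap_fac hi iH hH
  haveI := hi.1; haveI := hi.2.1
  -- surjectivity on the geometric fibre
  obtain ⟨s⟩ : Nonempty ↥(Spec (CommRingCat.of k)) := inferInstance
  let θ := Red.geomPt s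
  have hR := hG.2.2 s
  haveI : IsAffine (Red.bc θ G).left := hR.1
  haveI : Smooth (Red.bc θ G).hom := hR.2.1
  haveI : ConnectedSpace (Red.bc θ G).left := hR.2.2.1
  haveI : LocallyOfFiniteType (Red.bc θ G).hom := inferInstance
  have hmax := Groth.L24.TorusField.isMaxTorus_of_isMaximalTorus_field (Borel.isMaximalTorus_bc hi θ)
  obtain ⟨U, hU, hUy⟩ := Borel.exists_open_cartan hmax (selfCentral_of_reductiveOver hR hmax)
  haveI : IsClosedImmersion ((Over.pullback θ).map iH).left :=
    MorphismProperty.of_isPullback (P := @IsClosedImmersion) (Groth.L25.SchImage.isPullback_fst_map θ iH) inferInstance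
  haveI : IsLocallyNoetherian (Red.bc θ G).left := LocallyOfFiniteType.isLocallyNoetherian (Red.bc θ G).hom
  haveI : IrreducibleSpace (Red.bc θ G).left := Groth.L25.Component.irreducibleSpace _
  have hsub : (U : Set (Red.bc θ G).left) ⊆ Set.range ((Over.pullback θ).map iH).left := by
    by_contra hne
    obtain ⟨p, hpU, hp⟩ := Set.not_subset.1 hne
    obtain ⟨x, hx⟩ := Borel.exists_pt_mem (X := Red.bc θ G)
      (O := (U : Set (Red.bc θ G).left) ∩ (Set.range ((Over.pullback θ).map iH).left)ᶜ)
      (U.2.isLocallyClosed.inter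
        ((Over.pullback θ).map iH).left.isClosedEmbedding.isClosed_range.isOpen_compl.isLocallyClosed)
      ⟨p, hpU, hp⟩
    obtain ⟨g, y, e⟩ := hUy x hx.1
    apply hx.2
    let A := 𝟙_ (Over (Spec (CommRingCat.of (AlgebraicClosure ((Spec (CommRingCat.of k)).residueField s)))))
    let h : Over.mk (A.hom ≫ θ) ⟶ H := lift (NilAction.toBase θ g) (NilAction.toBase θ y) ≫ w
    have e2 : h ≫ iH = NilAction.toBase θ x := by
      rw [← e, NilAction.toBase_mul, NilAction.toBase_mul, Borel.toBase_inv, SplitSub.toBase_map,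
        Category.assoc, hw]
      simp only [MonObj.comp_mul, GrpObj.comp_inv, lift_fst, lift_snd_assoc]
    have e3 : NilAction.ofBase θ h ≫ (Over.pullback θ).map iH = x := by
      rw [← NilAction.ofBase_toBase θ (NilAction.ofBase θ h ≫ (Over.pullback θ).map iH),
        SplitSub.toBase_map, NilAction.toBase_ofBase, e2, NilAction.ofBase_toBase]
    rw [← e3]
    exact ⟨_, (Scheme.Hom.comp_apply _ _ _).symm⟩
  haveI : Surjective ((Over.pullback θ).map iH).left := by
    refine ⟨Set.range_eq_univ.1 (Set.eq_univ_of_univ_subset ?_)⟩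
    rw [← (U.2.dense hU).closure_eq]
    exact closure_minimal hsub ((Over.pullback θ).map iH).left.isClosedEmbedding.isClosed_range
  haveI : Surjective iH.left := by
    haveI : Surjective θ := ⟨fun _ => ⟨IsLocalRing.closedPoint _, Subsingleton.elim (α := PrimeSpectrum k) _ _⟩⟩
    haveI : Surjective (pullback.fst G.hom θ) := inferInstance
    haveI : Surjective (((Over.pullback θ).map iH).left ≫ pullback.fst G.hom θ) := inferInstance
    rw [ActBC.pullback_map_left_fst θ iH] at this
    exact Surjective.of_comp (pullback.fst H.hom θ) iH.left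
  haveI : IsReduced G.left := Groth.Agent.AV.isReduced_of_smooth_field G.hom
  haveI : IsIso iH.left := isIso_of_isClosedImmersion_of_surjective _
  haveI : IsIso ((Over.forget _).map iH) := ‹IsIso iH.left›
  exact isIso_of_reflects_iso _ (Over.forget _)

/-- subgroup version of `isIso_of_maxTori_fac'` -/
theorem isIso_of_maxTori_fac [IsSepClosed k] {G H : Over (Spec (CommRingCat.of k))} [GrpObj G] [GrpObj H]
    (hG : Red.IsReductive G) (iH : H ⟶ G) [IsClosedImmersion iH.left]
    (hH : ∀ (T : Over (Spec (CommRingCat.of k))) [GrpObj T] (iT : T ⟶ G), Red.IsMaximalTorus iT →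
      ∃ t : T ⟶ H, t ≫ iH = iT) : IsIso iH :=
  isIso_of_maxTori_fac' hG iH hH

end Groth.L08.TorusWeights
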