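import Groth.Agent.L25.Locus.FixedConn
import Groth.Agent.L25.Locus.Fixed
import Groth.Agent.L25.Locus.Normalizer
import Groth.Agent.L25.Bridge.Lift

/-!
# A normalised smooth connected subgroup meets the centralizer of a torus in a smooth connected group
-/

set_option autoImplicit false
set_option backward.isDefEq.respectTransparency.types false
set_option linter.style.haveILetI false
set_option linter.unusedSectionVars false

universe u

open CategoryTheory CategoryTheory.Limits MonoidalCategory CartesianMonoidalCategory MonObj GrpObj AlgebraicGeometry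

noncomputable section

namespace Groth.L08.TorusWeights

variable {k : Type u} [Field k]

/-- **the intersection with the centralizer of a normalising torus is smooth and connected** -/
theorem smooth_connected_inter_centralizer {G Q C H I : Over (Spec (CommRingCat.of k))} [GrpObj G] [GrpObj Q]
    [GrpObj C] [GrpObj H] [IsAffine G.left] [LocallyOfFiniteType G.hom] (iQ : Q ⟶ G) [IsMonHom iQ]
    (hQ : Red.IsTorus Q) (c : C ⟶ G) (hc : Red.IsCentralizerOf iQ c) (j : H ⟶ G) [IsMonHom j]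
    [IsClosedImmersion j.left] [Smooth H.hom] [ConnectedSpace H.left]
    (hnorm : ∀ (X : Over (Spec (CommRingCat.of k))) (s : X ⟶ Q) (h : X ⟶ H), ∃ h' : X ⟶ H,
      (s ≫ iQ) * (h ≫ j) * (s ≫ iQ)⁻¹ = h' ≫ j)
    (p : I ⟶ C) (q : I ⟶ H) (hI : IsPullback p q c j) : Smooth I.hom ∧ ConnectedSpace I.left := by
  haveI := hc.1; haveI := hc.2.1
  haveI : Mono j := Over.mono_of_mono_left j
  haveI : IsAffine H.left := isAffine_of_isAffineHom j.left
  obtain ⟨act, hact⟩ := hnorm (Q ⊗ H) (fst Q H) (snd Q H)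
  have hpt : ∀ (X : Over (Spec (CommRingCat.of k))) (s : X ⟶ Q) (h : X ⟶ H),
      (lift s h ≫ act) ≫ j = (s ≫ iQ) * (h ≫ j) * (s ≫ iQ)⁻¹ := fun X s h => by
    rw [Category.assoc, ← hact, MonObj.comp_mul, MonObj.comp_mul, GrpObj.comp_inv]
    simp
  let a : AlgGrp.Action Q H :=
    { act := act
      one_act := by
        rw [← cancel_mono j, Category.assoc, ← hact, MonObj.comp_mul, MonObj.comp_mul, GrpObj.comp_inv]
        simp only [whiskerRight_fst_assoc, whiskerRight_snd_assoc, leftUnitor_hom]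
        rw [show η[Q] ≫ iQ = η[G] from IsMonHom.one_hom iQ, toUnit_unique (fst (𝟙_ _) H) (toUnit _)]
        rw [show toUnit (𝟙_ (Over (Spec (CommRingCat.of k))) ⊗ H) ≫ η[G] = 1 from rfl, _root_.one_mul, inv_one,
          _root_.mul_one]
      mul_act := by
        rw [← cancel_mono j, Category.assoc, ← hact, MonObj.comp_mul, MonObj.comp_mul, GrpObj.comp_inv]
        have e : (α_ Q Q H).hom ≫ (Q ◁ act) ≫ act =
            lift (fst (Q ⊗ Q) H ≫ fst Q Q) (lift (fst (Q ⊗ Q) H ≫ snd Q Q) (snd (Q ⊗ Q) H) ≫ act) ≫ act := by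
          have e1 : (α_ Q Q H).hom ≫ (Q ◁ act) =
              lift (fst (Q ⊗ Q) H ≫ fst Q Q) (lift (fst (Q ⊗ Q) H ≫ snd Q Q) (snd (Q ⊗ Q) H) ≫ act) := by
            refine CartesianMonoidalCategory.hom_ext _ _ (by simp) ?_
            have e2 : (α_ Q Q H).hom ≫ snd Q (Q ⊗ H) = lift (fst (Q ⊗ Q) H ≫ snd Q Q) (snd (Q ⊗ Q) H) :=
              CartesianMonoidalCategory.hom_ext _ _ (by simp) (by simp)
            simp only [Category.assoc, whiskerLeft_snd, lift_snd]
            rw [← Category.assoc, e2]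
          rw [← Category.assoc, e1]
        have hμ : (μ[Q] ▷ H) ≫ fst Q H ≫ iQ =
            (fst (Q ⊗ Q) H ≫ fst Q Q ≫ iQ) * (fst (Q ⊗ Q) H ≫ snd Q Q ≫ iQ) := by
          rw [whiskerRight_fst_assoc, show μ[Q] = fst Q Q * snd Q Q from MonObj.mul_eq_mul Q,
            MonObj.mul_comp, MonObj.comp_mul]
        rw [hμ, e, hpt, hpt]
        simp only [whiskerRight_snd_assoc, Category.assoc, _root_.mul_inv_rev, _root_.mul_assoc] }
  have hmul : ∀ (X : Over (Spec (CommRingCat.of k))) (s : X ⟶ Q) (h h' : X ⟶ H),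
      lift s (h * h') ≫ a.act = (lift s h ≫ a.act) * (lift s h' ≫ a.act) := fun X s h h' => by
    rw [← cancel_mono j, MonObj.mul_comp, hpt, hpt, hpt, MonObj.mul_comp]
    group
  have hF : ∀ (X : Over (Spec (CommRingCat.of k))) (h : X ⟶ H), (∃ w, w ≫ q = h) ↔
      ∀ (X' : Over (Spec (CommRingCat.of k))) (g : X' ⟶ X) (s : X' ⟶ Q), lift s (g ≫ h) ≫ a.act = g ≫ h := by
    intro X h
    constructor
    · rintro ⟨w, rfl⟩ X' g s
      have h1 : ((g ≫ w ≫ p) ≫ c) * (s ≫ iQ) = (s ≫ iQ) * ((g ≫ w ≫ p) ≫ c) := by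
        have := (hc.2.2 X' ((g ≫ w ≫ p) ≫ c)).1 ⟨_, rfl⟩ X' (𝟙 X') s
        rwa [Category.id_comp] at this
      rw [← cancel_mono j, hpt]
      have h2 : (g ≫ w ≫ p) ≫ c = (g ≫ w ≫ q) ≫ j := by simp [hI.w]
      rw [h2] at h1
      rw [← h1, mul_inv_cancel_right]
    · intro hfix
      obtain ⟨z, hz⟩ := (hc.2.2 X (h ≫ j)).2 fun X' g s => by
        have e := (hpt X' s (g ≫ h)).symm.trans (congrArg (· ≫ j) (hfix X' g s))
        rw [← Category.assoc g h j]
        exact (mul_inv_eq_iff_eq_mul.1 e).symm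
      exact ⟨hI.lift z h hz, hI.lift_snd _ _ _⟩
  haveI : Mono q := ⟨fun {Z} u v e => hI.hom_ext ((cancel_mono c).1 (by
    simp only [Category.assoc, hI.w]; rw [← Category.assoc, e, Category.assoc])) e⟩
  refine ⟨?_, Groth.L25.Locus.connectedSpace_fixed hQ a hmul q hF⟩
  haveI : IsSeparated H.hom := inferInstance
  obtain ⟨F, f, hfc, hfl, hfF⟩ := Groth.L25.Locus.exists_fixedLocus a
    (Groth.L25.Locus.locally_of_multTypeFT (Groth.L25.Locus.isMultTypeFT_of_isTorus hQ))
  haveI := hfc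
  haveI : Mono f := Over.mono_of_mono_left f
  haveI : LocallyOfFinitePresentation f.left := hfl inferInstance
  haveI : Smooth F.hom := Groth.L25.Locus.smooth_fixedLocus a
    (Groth.L25.Locus.locally_of_multTypeFT (Groth.L25.Locus.isMultTypeFT_of_isTorus hQ)) f hfF
  obtain ⟨u, hu⟩ := (hfF I q).2 ((hF I q).1 ⟨𝟙 I, Category.id_comp q⟩)
  obtain ⟨v, hv⟩ := (hF F f).2 ((hfF F f).1 ⟨𝟙 F, Category.id_comp f⟩)
  let e : I ≅ F := ⟨u, v, by rw [← cancel_mono q, Category.assoc, hv, hu, Category.id_comp],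
    by rw [← cancel_mono f, Category.assoc, hu, hv, Category.id_comp]⟩
  haveI : IsIso e.hom := e.isIso_hom
  haveI : IsIso e.hom.left := inferInstanceAs (IsIso ((Over.forget _).map e.hom))
  rw [← Over.w e.hom]
  infer_instance

end Groth.L08.TorusWeights
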