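import Groth.Agent.L08.TorusWeights.Basic
import Groth.Agent.L08.TorusWeights.FieldUniv
import Groth.Agent.L08.Borel.MaxTorusNonsmooth
import Groth.Agent.L08.Borel.Cartan
import Groth.Agent.L08.Borel.MultUnip
import Groth.Agent.L08.Borel.GenCartan
import Groth.Agent.L08.Borel.Points
import Groth.Agent.L08.Borel.CartanNhd
import Groth.Agent.L08.Borel.RedRank
import Groth.Agent.L25.NhdEq.Commute
import Groth.Agent.L25.ConjAction
import Groth.Agent.L25.Extend.EtaleSplit
import Groth.Agent.L25.SplitSub.KernelLocal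

/-!
# The reductive centre near a point, in presence of a split maximal torus
-/

set_option autoImplicit false
set_option backward.isDefEq.respectTransparency.types false
set_option linter.style.haveILetI false
set_option linter.unusedSectionVars false
universe u

open CategoryTheory CategoryTheory.Limits MonoidalCategory CartesianMonoidalCategory MonObj GrpObj AlgebraicGeometry
open TopologicalSpace (Opens)

noncomputable section

namespace Groth.L08.TorusWeights

open Groth.L25

variable {S : Scheme.{u}} {G : Over S} [GrpObj G]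

/-- the fibres are connected -/
theorem connectedSpace_residue (hconn : ∀ s : S, _root_.IsConnected (G.hom.base ⁻¹' {s})) (t : S) :
    ConnectedSpace ↥(pullback G.hom (S.fromSpecResidueField t)) :=
  Borel.connectedSpace_bc_point G hconn (K := S.residueField t) (S.fromSpecResidueField t)

/-- base change along the identity is a homomorphism -/
theorem isMonHom_bcId (X : Over S) [GrpObj X] : IsMonHom (M := Red.bc (𝟙 S) X) (N := X) ((Over.pullbackId (X := S)).hom.app X) :=
  ((Functor.mapGrpNatIso (Over.pullbackId (X := S))).app (Grp.mk X)).hom.hom.isMonHom_hom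

/-- the fibre of a smooth group is reduced -/
theorem isReduced_fiber [Smooth G.hom] (t : S) : IsReduced (pullback G.hom (S.fromSpecResidueField t)) :=
  haveI : Smooth (pullback.snd G.hom (S.fromSpecResidueField t)) := MorphismProperty.pullback_snd _ _ inferInstance
  Groth.Agent.AV.isReduced_of_smooth_field (k := S.residueField t) (pullback.snd G.hom (S.fromSpecResidueField t))

/-- functions without points of the fibre in their support vanish there -/
theorem appTop_eq_zero [Smooth G.hom] [IsAffine G.left] {s : S} {c : Γ(G.left, ⊤)}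
    (hc : ∀ x : G.left, G.hom x = s → x ∉ G.left.basicOpen c) {X : Over S} (w : X.left ⟶ Spec (S.residueField s))
    (hw : w ≫ S.fromSpecResidueField s = X.hom) (g : X ⟶ G) : g.left.appTop.hom c = 0 := by
  haveI := isReduced_fiber (G := G) s
  let p := pullback.fst G.hom (S.fromSpecResidueField s)
  have h0 : p.appTop.hom c = 0 := by
    rw [← basicOpen_eq_bot_iff, ← Scheme.preimage_basicOpen_top]
    refine le_bot_iff.1 fun y hy => hc (p y) ?_ hy
    have e : G.hom (p y) = S.fromSpecResidueField s (pullback.snd G.hom (S.fromSpecResidueField s) y) := by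
      rw [← Scheme.Hom.comp_apply, ← Scheme.Hom.comp_apply, pullback.condition]
    rw [e, ← Set.mem_singleton_iff, ← Scheme.range_fromSpecResidueField]
    exact ⟨_, rfl⟩
  have hg : pullback.lift g.left w ((Over.w g).trans hw.symm) ≫ p = g.left := pullback.lift_fst _ _ _
  rw [← hg, Scheme.Hom.comp_appTop, CommRingCat.comp_apply, h0, map_zero]

variable {M : Type} [AddCommGroup M]

set_option maxHeartbeats 100000 in
/-- **the field case**: central subgroups of multiplicative type lie in the torus -/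
theorem exists_fac_torus [Smooth G.hom] [IsAffineHom G.hom] (hconn : ∀ s : S, _root_.IsConnected (G.hom.base ⁻¹' {s}))
    {T : Over S} [GrpObj T] {i : T ⟶ G} (hi : Red.IsMaximalTorus i) {K : Type u} [Field K] [IsAlgClosed K]
    (b : Spec (CommRingCat.of K) ⟶ S) {H : Over (Spec (CommRingCat.of K))} [GrpObj H] (v : H ⟶ Red.bc b G) [IsMonHom v]
    (hH : SGA3x.IsMultTypeFT H) (hv : IsCentralHom v) :
    ∃ w : H ⟶ Red.bc b T, IsMonHom w ∧ w ≫ (Over.pullback b).map i = v := by
  haveI : LocallyOfFiniteType G.hom := inferInstance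
  haveI : QuasiCompact G.hom := inferInstance
  let Gb := Red.bc b G
  haveI : Smooth Gb.hom := inferInstanceAs (Smooth (pullback.snd G.hom b))
  haveI : IsAffineHom Gb.hom := MorphismProperty.pullback_snd (P := @IsAffineHom) G.hom b inferInstance
  haveI : IsAffine Gb.left := isAffine_of_isAffineHom Gb.hom
  haveI : QuasiCompact Gb.hom := inferInstance
  haveI : ConnectedSpace Gb.left := Borel.connectedSpace_bc_point G hconn b
  have hm : AGF.IsMaxTorus ((Over.pullback b).map i) :=
    Borel.isMaxTorus_of_isMaximalTorus (Borel.isMaximalTorus_bc_fp hi b)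
  haveI := hm.1; haveI := hm.2.1
  obtain ⟨C, gC, c, hc, hcl, hCs, hCc⟩ := Borel.exists_centralizer_gen ((Over.pullback b).map i) hm.2.2.1
  haveI := hc.1; haveI := hc.2.1; haveI := hCs; haveI := hCc; haveI := hcl
  haveI : IsAffine C.left := isAffine_of_isAffineHom c.left
  have hsol := Borel.isSolvableGrp_centralizer hm hc
  obtain ⟨-, -, -, -, ⟨t, ht⟩, hcen⟩ := Borel.centralizer_props hm.2.2.1 hc
  haveI : IsMonHom t := Borel.isMonHom_lift_mono c ((Over.pullback b).map i) t ht
  obtain ⟨v', hv'⟩ := (hc.2.2 H v).2 fun X' x h => by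
    rw [← hv X' x]
  haveI : IsMonHom v' := Borel.isMonHom_lift_mono c v v' hv'
  obtain ⟨w, hw⟩ := Borel.mult_le_maxTorus_solvable hsol (Borel.isMaxTorus_factor (iB := c) (t := t) (ht.symm ▸ hm))
    (fun X g s => by
      rw [← cancel_mono c, MonObj.mul_comp, MonObj.mul_comp, Category.assoc, ht]
      exact hcen _ g s)
    hH v' fun X g s => by
      rw [← cancel_mono c, MonObj.mul_comp, MonObj.mul_comp, Category.assoc, hv']
      exact (hv _ s _).symm
  have e : w ≫ (Over.pullback b).map i = v := by rw [← ht, reassoc_of% hw, hv']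
  exact ⟨w, Borel.isMonHom_lift_mono ((Over.pullback b).map i) v w e, e⟩

variable [IsAffine G.left] (i : Red.DS S M ⟶ G)

set_option maxHeartbeats 100000 in
/-- **the field case**: central subgroups lie in the subgroup killing the weights -/
theorem fieldUnivAt_kills [Smooth G.hom] [IsAffineHom G.hom] [IsAffine S] [Monoid.FG (Multiplicative M)]
    (hconn : ∀ s : S, _root_.IsConnected (G.hom.base ⁻¹' {s}))
    (hi : Red.IsMaximalTorus i) (W : Set M) {K : Type u} [Field K] [IsAlgClosed K]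
    (b : Spec (CommRingCat.of K) ⟶ S)
    (hb : ∀ m ∈ W, ∃ (a : Γ(G.left, ⊤)) (x : G.left), G.hom x = b (IsLocalRing.closedPoint K) ∧
      x ∈ G.left.basicOpen ((co i a).coeff (Multiplicative.ofAdd m))) :
    FieldUnivAt (Red.DSmap S (QuotientAddGroup.mk' (AddSubgroup.closure W)) ≫ i) b := fun H _ v _ hH hv => by
  haveI := hi.1
  haveI := hi.2.1
  obtain ⟨w₀, hw₀m, hw₀⟩ := exists_fac_torus hconn hi b v hH hv
  haveI := hw₀m
  -- split H
  obtain ⟨S₂, g, hg, ⟨s₂, hs₂⟩, M', _, -, ⟨eM⟩⟩ :=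
    Extend.exists_etale_split hH (IsLocalRing.closedPoint K)
  haveI : Etale g := hg
  obtain ⟨σ, hσ⟩ := Borel.exists_pt_lift_etale g (𝟙 _) s₂ hs₂
  let e₁ : Red.bc (𝟙 (Spec (CommRingCat.of K))) H ≅ Red.DS (Spec (CommRingCat.of K)) M' :=
    (Grp.forget _).mapIso (TrivLocus.restrictIso g σ eM hσ)
  haveI : IsMonHom e₁.hom := Borel.isMonHom_forget _
  let e : Red.bc (𝟙 (Spec (CommRingCat.of K))) H ≅ Red.bc b (Red.DS S M') := e₁ ≪≫ (SplitSub.bcDS b).symm
  haveI : IsMonHom (SplitSub.bcDS (N := M') b).hom := SplitSub.isMonHom_bcDS b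
  haveI : IsMonHom (SplitSub.bcDS (N := M') b).symm.hom := inferInstanceAs (IsMonHom (SplitSub.bcDS b).inv)
  haveI : IsMonHom e.hom := inferInstanceAs (IsMonHom (_ ≫ _))
  haveI : IsMonHom e.inv := inferInstance
  let u : H ≅ Red.bc (𝟙 (Spec (CommRingCat.of K))) H := ((Over.pullbackId).app H).symm
  haveI : IsMonHom u.inv := isMonHom_bcId H
  haveI : IsMonHom u.symm.hom := inferInstanceAs (IsMonHom u.inv)
  haveI : IsMonHom u.hom := inferInstanceAs (IsMonHom u.symm.inv)
  let f₀ : Red.bc b (Red.DS S M') ⟶ Red.bc b (Red.DS S M) := e.inv ≫ u.inv ≫ w₀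
  haveI : IsMonHom f₀ := inferInstanceAs (IsMonHom (_ ≫ _ ≫ _))
  obtain ⟨φ, hφ⟩ := Borel.exists_DSmap_agree b f₀
  have hker : AddSubgroup.closure W ≤ φ.ker := by
    rw [AddSubgroup.closure_le]
    intro m hm
    by_contra hne
    obtain ⟨a, x, hx, hxc⟩ := hb m hm
    obtain ⟨z, hz⟩ : ∃ z : ↥(pullback G.hom b), pullback.fst G.hom b z = x := by
      obtain ⟨z, hz, -⟩ := Scheme.Pullback.exists_preimage_pullback (f := G.hom) (g := b) x _ hx
      exact ⟨z, hz⟩
    haveI : LocallyOfFiniteType (Red.bc b G).hom := inferInstanceAs (LocallyOfFiniteType (pullback.snd G.hom b))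
    obtain ⟨pt, hpt⟩ := Borel.exists_pt_mem (X := Red.bc b G)
      (O := ((pullback.fst G.hom b ⁻¹ᵁ G.left.basicOpen ((co i a).coeff (Multiplicative.ofAdd m)) : (pullback G.hom b).Opens) : Set ↥(pullback G.hom b)))
      (Opens.isOpen _).isLocallyClosed ⟨z, show pullback.fst G.hom b z ∈ G.left.basicOpen _ from hz ▸ hxc⟩
    let Y₀ : Over S := Over.mk (𝟙 _ ≫ b)
    let g₀ : Y₀ ⟶ G := NilAction.toBase b pt
    haveI : IsAffine Y₀.left := inferInstanceAs (IsAffine (Spec (CommRingCat.of K)))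
    have h0 := weight_kills i φ (Y₀ := Y₀) (fun Y q z g => by
      let Y' : Over (Spec (CommRingCat.of K)) := Over.mk q.left
      have hY : Y'.hom ≫ b = Y.hom := by
        refine Eq.trans ?_ (Over.w q)
        show q.left ≫ b = q.left ≫ 𝟙 _ ≫ b
        rw [Category.id_comp]
      let j : Over.mk (Y'.hom ≫ b) ≅ Y := Over.isoMk (Iso.refl _) ((Category.id_comp _).trans hY.symm)
      let z' : Y' ⟶ H := NilAction.ofBase b (j.hom ≫ z) ≫ e.inv ≫ u.inv
      have e1 : z' ≫ v = NilAction.ofBase b (j.hom ≫ z ≫ Red.DSmap S φ ≫ i) := by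
        rw [← Category.assoc j.hom, ← NilAction.ofBase_comp, Functor.map_comp, hφ]
        simp only [z', f₀, Category.assoc, hw₀]
      have h1 := congrArg (NilAction.toBase b) (hv Y' z' (NilAction.ofBase b (j.hom ≫ g)))
      rw [e1, NilAction.toBase_mul, NilAction.toBase_mul, NilAction.toBase_ofBase, NilAction.toBase_ofBase,
        ← MonObj.comp_mul, ← MonObj.comp_mul, cancel_epi] at h1
      exact h1) g₀ a m hne
    have hmem : IsLocalRing.closedPoint K ∈ g₀.left ⁻¹ᵁ G.left.basicOpen ((co i a).coeff (Multiplicative.ofAdd m)) := by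
      show (pt.left ≫ pullback.fst G.hom b) (IsLocalRing.closedPoint K) ∈ G.left.basicOpen _
      rw [Scheme.Hom.comp_apply]
      exact hpt
    rw [Scheme.preimage_basicOpen_top, h0, Scheme.basicOpen_zero] at hmem
    exact hmem
  let ψ := QuotientAddGroup.lift _ φ hker
  have hψ : φ = ψ.comp (QuotientAddGroup.mk' (AddSubgroup.closure W)) := AddMonoidHom.ext fun x => rfl
  refine ⟨u.hom ≫ e.hom ≫ (Over.pullback b).map (Red.DSmap S ψ), ?_⟩
  simp only [Category.assoc]
  rw [← Functor.map_comp, ← Category.assoc (Red.DSmap S ψ), TorusTorsion.DSmap_comp, ← hψ, Functor.map_comp, hφ]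
  simp only [f₀, Category.assoc, Iso.hom_inv_id_assoc, hw₀]

/-- restriction of a subgroup to a neighbourhood where it is central -/
theorem restrict_central [LocallyOfFiniteType G.hom] {D : Over S} [GrpObj D] (d : D ⟶ G) [IsMonHom d] [Mono d]
    (hD : SGA3x.IsMultTypeFT D) (U : S.Opens)
    (hU : ∀ t ∈ U, ∀ (X : Over S) (w : X.left ⟶ Spec (S.residueField t)),
      w ≫ S.fromSpecResidueField t = X.hom → ∀ (g : X ⟶ G) (h : X ⟶ D), g * (h ≫ d) = (h ≫ d) * g) :
    IsMonHom ((Over.pullback U.ι).map d) ∧ Mono ((Over.pullback U.ι).map d) ∧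
      SGA3x.IsMultTypeFT (Red.bc U.ι D) ∧ IsCentralHom ((Over.pullback U.ι).map d) := by
  haveI : LocallyOfFiniteType (Red.bc U.ι G).hom := inferInstanceAs (LocallyOfFiniteType (pullback.snd G.hom U.ι))
  haveI : IsMonHom ((Over.pullback U.ι).map d) := MonoClosed.isMonHom_pullbackMap _ _
  refine ⟨inferInstance, Functor.map_mono _ _, MultTypeBC.isMultTypeFT_bc hD _, fun X x g => ?_⟩
  refine (ConjAction.central ((Over.pullback U.ι).map d) (MultTypeBC.isMultTypeFT_bc hD _)
    (fun t X g h => ?_) g x).symm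
  apply SplitSub.toBase_injective (U.toScheme.fromSpecResidueField t)
  rw [NilAction.toBase_mul, NilAction.toBase_mul, SplitSub.toBase_map]
  apply SplitSub.toBase_injective U.ι
  rw [NilAction.toBase_mul, NilAction.toBase_mul, SplitSub.toBase_map]
  obtain ⟨θ, hθ⟩ : ∃ θ : Spec (U.toScheme.residueField t) ⟶ Spec (S.residueField (U.ι t)),
      θ ≫ S.fromSpecResidueField (U.ι t) = U.toScheme.fromSpecResidueField t ≫ U.ι :=
    ⟨_, Scheme.Hom.SpecMap_residueFieldMap_fromSpecResidueField U.ι t⟩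
  refine hU (U.ι t) t.2 _ (X.hom ≫ θ) ?_ _ _
  show (X.hom ≫ θ) ≫ _ = (X.hom ≫ U.toScheme.fromSpecResidueField t) ≫ U.ι
  rw [Category.assoc, hθ, Category.assoc]

set_option maxHeartbeats 100000 in
/-- **the data of the reductive centre near a point** -/
theorem exists_local_data [Smooth G.hom] [IsAffineHom G.hom] [IsAffine S] (hM : AddGroup.FG M)
    (hconn : ∀ s : S, _root_.IsConnected (G.hom.base ⁻¹' {s})) (hi : Red.IsMaximalTorus i) (s : S) :
    ∃ (F : Finset M) (U : S.Opens), s ∈ U ∧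
      (∀ t ∈ U, ∀ m ∈ F, ∃ (a : Γ(G.left, ⊤)) (x : G.left), G.hom x = t ∧
        x ∈ G.left.basicOpen ((co i a).coeff (Multiplicative.ofAdd m))) ∧
      IsMonHom ((Over.pullback U.ι).map (Red.DSmap S (QuotientAddGroup.mk' (AddSubgroup.closure (↑F : Set M))) ≫ i)) ∧
      Mono ((Over.pullback U.ι).map (Red.DSmap S (QuotientAddGroup.mk' (AddSubgroup.closure (↑F : Set M))) ≫ i)) ∧
      SGA3x.IsMultTypeFT (Red.bc U.ι (Red.DS S (M ⧸ AddSubgroup.closure (↑F : Set M)))) ∧
      IsCentralHom ((Over.pullback U.ι).map (Red.DSmap S (QuotientAddGroup.mk' (AddSubgroup.closure (↑F : Set M))) ≫ i)) := by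
  haveI := hi.1
  haveI := hi.2.1
  haveI : Monoid.FG (Multiplicative M) := Group.fg_iff_monoid_fg.1 (AddGroup.fg_iff_mul_fg.1 hM)
  haveI : Module.Finite ℤ M := Module.Finite.iff_addGroup_fg.2 hM
  let W : Set M := {m | ∃ (a : Γ(G.left, ⊤)) (x : G.left), G.hom x = s ∧
      x ∈ G.left.basicOpen ((co i a).coeff (Multiplicative.ofAdd m))}
  obtain ⟨F, hFW, hF⟩ : ∃ F : Finset M, ↑F ⊆ W ∧ AddSubgroup.closure (↑F : Set M) = AddSubgroup.closure W := by
    obtain ⟨F, hFW, hF⟩ := (Submodule.fg_span_iff_fg_span_finset_subset (R := ℤ) W).1 (IsNoetherian.noetherian _)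
    refine ⟨F, hFW, ?_⟩
    rw [← Submodule.span_int_eq_addSubgroupClosure, ← Submodule.span_int_eq_addSubgroupClosure, hF]
  choose a x hxs hxc using fun m : (↑F : Set M) => hFW m.2
  let p := QuotientAddGroup.mk' (AddSubgroup.closure (↑F : Set M))
  let d : Red.DS S (M ⧸ AddSubgroup.closure (↑F : Set M)) ⟶ G := Red.DSmap S p ≫ i
  haveI : IsMonHom (Red.DSmap S p) := TorusTorsion.isMonHom_DSmap S p
  haveI : IsMonHom d := inferInstanceAs (IsMonHom (_ ≫ _))
  haveI : Mono (Red.DSmap S p) := SplitSub.mono_DSmap p (QuotientAddGroup.mk'_surjective _)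
  haveI : Mono d := mono_comp _ _
  have hD : SGA3x.IsMultTypeFT (Red.DS S (M ⧸ AddSubgroup.closure (↑F : Set M))) :=
    SplitSub.isMultTypeFT_DS S _ (AddGroup.fg_of_surjective (f := p) (QuotientAddGroup.mk'_surjective _))
  have hcs : ∀ (X : Over S) (w : X.left ⟶ Spec (S.residueField s)), w ≫ S.fromSpecResidueField s = X.hom →
      ∀ (g : X ⟶ G) (h : X ⟶ Red.DS S (M ⧸ AddSubgroup.closure (↑F : Set M))), g * (h ≫ d) = (h ≫ d) * g := by
    intro X w hw g h
    show g * (h ≫ Red.DSmap S p ≫ i) = (h ≫ Red.DSmap S p ≫ i) * g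
    rw [← Category.assoc]
    refine (commute_of_kills i (h ≫ Red.DSmap S p) g fun a m => ?_).symm
    by_cases hm : Multiplicative.toAdd m ∈ AddSubgroup.closure (↑F : Set M)
    · refine Or.inr ?_
      rw [SplitSub.char_DSmap]
      show DSPts.char h (Multiplicative.ofAdd (p (Multiplicative.toAdd m))) = 1
      have h0 : p (Multiplicative.toAdd m) = 0 := (QuotientAddGroup.eq_zero_iff _).2 hm
      rw [h0, ofAdd_zero, map_one]
    · refine Or.inl (appTop_eq_zero (fun y hy hy' => hm ?_) w hw g)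
      rw [hF]
      exact AddSubgroup.subset_closure ⟨a, y, hy, hy'⟩
  haveI : LocallyOfFiniteType G.hom := inferInstance
  obtain ⟨U₀, hs₀, hU₀⟩ := NhdEq.exists_nhd_central hD (connectedSpace_residue hconn) d s hcs
  let O : (↑F : Set M) → S.Opens := fun m =>
    ⟨G.hom.base '' (G.left.basicOpen ((co i (a m)).coeff (Multiplicative.ofAdd (m : M))) : Set G.left),
      G.hom.isOpenMap _ (G.left.basicOpen _).2⟩
  haveI : Fintype (↑F : Set M) := FinsetCoe.fintype F
  let U : S.Opens := U₀ ⊓ Finset.univ.inf O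
  have hsU : s ∈ U := by
    refine ⟨hs₀, Finset.inf_induction (p := fun V : S.Opens => s ∈ V) trivial (fun _ h₁ _ h₂ => ⟨h₁, h₂⟩)
      fun m _ => ⟨x m, hxc m, hxs m⟩⟩
  have hO : ∀ t ∈ U, ∀ m, t ∈ O m := fun t ht m => (Finset.inf_le (f := O) (Finset.mem_univ m)) ht.2
  obtain ⟨r1, r2, r3, r4⟩ := restrict_central d hD U fun t ht => hU₀ t ht.1
  exact ⟨F, U, hsU, fun t ht m hm => by
    obtain ⟨y, hy, hyx⟩ := hO t ht ⟨m, hm⟩
    exact ⟨a ⟨m, hm⟩, y, hyx, hy⟩, r1, r2, r3, r4⟩

set_option maxHeartbeats 1000000 in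
/-- **the reductive centre near a point** -/
theorem exists_local [Smooth G.hom] [IsAffineHom G.hom] [IsAffine S] (hM : AddGroup.FG M)
    (hconn : ∀ s : S, _root_.IsConnected (G.hom.base ⁻¹' {s})) (hi : Red.IsMaximalTorus i) (s : S) :
    ∃ (U : S.Opens) (_ : s ∈ U) (Z : Over U.toScheme) (_ : GrpObj Z) (z : Z ⟶ Red.bc U.ι G),
      IsMonHom z ∧ Mono z ∧ SGA3x.IsMultTypeFT Z ∧ IsCentralHom z ∧ FieldUniv z := by
  haveI : Monoid.FG (Multiplicative M) := Group.fg_iff_monoid_fg.1 (AddGroup.fg_iff_mul_fg.1 hM)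
  obtain ⟨F, U, hsU, hO, r1, r2, r3, r4⟩ := exists_local_data i hM hconn hi s
  refine ⟨U, hsU, _, inferInstance, _, r1, r2, r3, r4, fun K _ _ b => FieldUnivAt.map rfl ?_⟩
  refine fieldUnivAt_kills i hconn hi _ _ fun m hm => hO _ ?_ m hm
  rw [Scheme.Hom.comp_apply]
  exact (b (IsLocalRing.closedPoint K)).2

end Groth.L08.TorusWeights
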