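import Groth.Agent.L08.TorusWeights.Reductive
import Groth.Agent.L08.TorusWeights.Radical
import Groth.Agent.L08.Borel.CartanImage
import Groth.Agent.L08.Borel.ImageTorus
import Groth.Agent.L24.TorusField.NonAffine

/-!
# Maximal tori and central isogenies of reductive groups
-/

set_option autoImplicit false
set_option backward.isDefEq.respectTransparency.types false
set_option linter.style.haveILetI false
set_option linter.unusedSectionVars false

universe u

open CategoryTheory CategoryTheory.Limits MonoidalCategory CartesianMonoidalCategory MonObj GrpObj AlgebraicGeometry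

noncomputable section

namespace Groth.L08.TorusWeights

variable {S : Scheme.{u}}

/-- a maximal torus of a reductive group is its own centralizer -/
theorem isCentralizerOf_self {G T : Over S} [GrpObj G] [GrpObj T] (hG : Red.IsReductive G) {i : T ⟶ G}
    (hi : Red.IsMaximalTorus i) : Red.IsCentralizerOf i i := by
  haveI := hG.1; haveI := hG.2.1; haveI := hi.1; haveI := hi.2.1
  refine ⟨inferInstance, inferInstance, fun X g => ⟨?_, fun h => ?_⟩⟩
  · rintro ⟨z, rfl⟩ X' x t
    rw [← Category.assoc, ← MonObj.mul_comp, ← MonObj.mul_comp, torus_comm hi.2.2.1]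
  · exact exists_fac_selfCentral (unipotentRankZero_of_isReductive hG) hi g h

/-- **under a surjection with central kernel a maximal torus is the preimage of its image** -/
theorem isPullback_maxTorus {G G' T T' : Over S} [GrpObj G] [GrpObj G'] [GrpObj T] [GrpObj T']
    (hG : Red.IsReductive G) (hG' : Red.IsReductive G') (u : G ⟶ G') [IsMonHom u]
    (hu : ∀ s : S, Surjective ((Over.pullback (Red.geomPt s)).map u).left)
    (hker : ∀ (X : Over S) (z : X ⟶ G), z ≫ u = 1 → ∀ (X' : Over S) (x : X' ⟶ X) (g : X' ⟶ G),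
      (x ≫ z) * g = g * (x ≫ z))
    {i : T ⟶ G} (hT : Red.IsMaximalTorus i) {i' : T' ⟶ G'} (hT' : Red.IsMaximalTorus i') (v : T ⟶ T')
    [Surjective v.left] [Flat v.left] (hv : v ≫ i' = i ≫ u) : IsPullback i v u i' := by
  haveI := hG.1; haveI := hG.2.1; haveI := hG'.1; haveI := hG'.2.1; haveI := hT'.2.1
  haveI : QuasiCompact G.hom := inferInstance
  haveI : QuasiCompact G'.hom := inferInstance
  haveI : IsSeparated G.hom := inferInstance
  haveI : IsSeparated G'.hom := inferInstance
  obtain ⟨w, -, -, -, hw⟩ := Borel.exists_cartan_square u hu (isConnected_of_isReductive hG') hker hT hT' v hv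
    (isCentralizerOf_self hG hT) (isCentralizerOf_self hG' hT')
  have : w = v := by rw [← cancel_mono i', hv, hw.w]
  rwa [this] at hw

variable {k : Type u} [Field k]

/-- the kernel of an isogeny is central on points -/
theorem central_of_kernel {G G' K : Over (Spec (CommRingCat.of k))} [GrpObj G] [GrpObj G'] (f : G ⟶ G')
    (iK : K ⟶ G) (hK : AlgGrp.IsKernel iK f)
    (hKc : ∀ (X : Over (Spec (CommRingCat.of k))) (x : X ⟶ K) (X' : Over (Spec (CommRingCat.of k))) (y : X' ⟶ X)
      (h : X' ⟶ G), (y ≫ x ≫ iK) * h = h * (y ≫ x ≫ iK))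
    (X : Over (Spec (CommRingCat.of k))) (z : X ⟶ G) (hz : z ≫ f = 1)
    (X' : Over (Spec (CommRingCat.of k))) (x : X' ⟶ X) (g : X' ⟶ G) : (x ≫ z) * g = g * (x ≫ z) := by
  have h1 : z ≫ f = toUnit X ≫ η[G'] := by rw [hz]; rfl
  rw [← hK.lift_fst z (toUnit X) h1]
  exact hKc X (hK.lift z (toUnit X) h1) X' x g

/-- surjective homomorphisms over a field are surjective on geometric fibres -/
theorem surjective_geomFibres {G G' : Over (Spec (CommRingCat.of k))} (f : G ⟶ G') [Surjective f.left]
    (s : ↥(Spec (CommRingCat.of k))) : Surjective ((Over.pullback (Red.geomPt s)).map f).left :=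
  Borel.surjective_bcMap _ f

/-- **maximal tori lift along central isogenies as preimages** -/
theorem exists_maxTorus_preimage {G G' : Over (Spec (CommRingCat.of k))} [GrpObj G] [GrpObj G']
    (hG : Red.IsReductive G) (hG' : Red.IsReductive G') (f : G ⟶ G') [IsMonHom f] [Surjective f.left]
    (hker : ∀ (X : Over (Spec (CommRingCat.of k))) (z : X ⟶ G), z ≫ f = 1 →
      ∀ (X' : Over (Spec (CommRingCat.of k))) (x : X' ⟶ X) (g : X' ⟶ G), (x ≫ z) * g = g * (x ≫ z))
    {T' : Over (Spec (CommRingCat.of k))} [GrpObj T'] {i' : T' ⟶ G'} (hT' : Red.IsMaximalTorus i') :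
    ∃ (T : Over (Spec (CommRingCat.of k))) (_ : GrpObj T) (i : T ⟶ G) (v : T ⟶ T'),
      Red.IsMaximalTorus i ∧ IsMonHom v ∧ IsPullback i v f i' := by
  haveI := hG.1; haveI := hG.2.1; haveI := hG'.1; haveI := hG'.2.1
  haveI : QuasiCompact G.hom := inferInstance
  haveI : QuasiCompact G'.hom := inferInstance
  obtain ⟨T₁, g₁, i₁, h₁⟩ := Groth.L24.TorusField.exists_maximalTorus G
  have hfp : SGA3x.HasMaxTorusFpqcLocally G := ⟨_, 𝟙 _, inferInstance, inferInstance, fun V hV =>
    ⟨V, hV.isCompact, Set.image_id _⟩, _, _, _, Borel.isMaximalTorus_bc h₁ (𝟙 _)⟩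
  obtain ⟨T, gT, i, v, hT, hvm, hv, hvs, hvf⟩ :=
    Borel.exists_lift_maximalTorus hfp f (surjective_geomFibres f) hker hT'
  haveI := hvs; haveI := hvf
  exact ⟨T, gT, i, v, hT, hvm, isPullback_maxTorus hG hG' f (surjective_geomFibres f) hker hT hT' v hv⟩

/-- **the preimage of a maximal torus under a central isogeny is a maximal torus** -/
theorem isMaximalTorus_preimage {G G' : Over (Spec (CommRingCat.of k))} [GrpObj G] [GrpObj G']
    (hG : Red.IsReductive G) (hG' : Red.IsReductive G') (f : G ⟶ G') [IsMonHom f] [Surjective f.left]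
    (hker : ∀ (X : Over (Spec (CommRingCat.of k))) (z : X ⟶ G), z ≫ f = 1 →
      ∀ (X' : Over (Spec (CommRingCat.of k))) (x : X' ⟶ X) (g : X' ⟶ G), (x ≫ z) * g = g * (x ≫ z))
    {T' P : Over (Spec (CommRingCat.of k))} [GrpObj T'] [GrpObj P] {i' : T' ⟶ G'} (hT' : Red.IsMaximalTorus i')
    (j : P ⟶ G) [IsMonHom j] (p : P ⟶ T') (sq : IsPullback j p f i') : Red.IsMaximalTorus j := by
  obtain ⟨T, gT, i, v, hT, -, hsq⟩ := exists_maxTorus_preimage hG hG' f hker hT'
  haveI := hT.1; haveI := hT.2.1
  let e := sq.isoIsPullback _ _ hsq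
  have he : e.hom ≫ i = j := sq.isoIsPullback_hom_fst _ _ hsq
  haveI : IsMonHom e.hom := isMonHom_of_mono e.hom i j he
  haveI : IsMonHom e.inv := inferInstance
  haveI : IsMonHom e.symm.hom := inferInstanceAs (IsMonHom e.inv)
  rw [← he]
  exact Groth.L24.TorusField.isMaximalTorus_iso_comp hT e.hom
    (Groth.L25.TorLift.isTorus_of_iso (Grp.mkIso' e.symm) hT.2.2.1)

end Groth.L08.TorusWeights
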