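import Groth.Agent.L08.TorusWeights.Radical
import Groth.Agent.L08.Borel.MaxToriConj
import Groth.Agent.L08.Borel.IsoBase
import Groth.Agent.L08.Borel.Conj

/-!
# Transitivity of subgroups of type (R)
-/

set_option autoImplicit false
set_option backward.isDefEq.respectTransparency.types false
set_option linter.style.haveILetI false
set_option linter.unusedSectionVars false

universe u

open CategoryTheory CategoryTheory.Limits MonoidalCategory CartesianMonoidalCategory MonObj GrpObj AlgebraicGeometry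

noncomputable section

namespace Groth.L08.TorusWeights

variable {S : Scheme.{u}}

/-- a maximal torus inside a subgroup is maximal in it -/
theorem isMaxTorus_of_comp {k : Type u} [Field k] {G H T : Over (Spec (CommRingCat.of k))} [GrpObj G] [GrpObj H]
    [GrpObj T] (t : T ⟶ H) [IsMonHom t] (j : H ⟶ G) [IsMonHom j] [Mono j] (h : AGF.IsMaxTorus (t ≫ j)) :
    AGF.IsMaxTorus t := by
  haveI := h.2.1
  haveI : Mono t := mono_of_mono t j
  refine ⟨inferInstance, inferInstance, h.2.2.1, fun T' _ a _ _ f hT' hf => ?_⟩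
  haveI : Mono (a ≫ j) := mono_comp _ _
  exact h.2.2.2 T' (a ≫ j) f hT' (by rw [reassoc_of% hf])

/-- maximal tori of a subgroup containing a maximal torus are maximal -/
theorem isMaxTorus_comp_of_exists {k : Type u} [Field k] [IsAlgClosed k] {G H T T₀ : Over (Spec (CommRingCat.of k))}
    [GrpObj G] [GrpObj H] [GrpObj T] [GrpObj T₀] [Smooth H.hom] [QuasiCompact H.hom] (j : H ⟶ G) [IsMonHom j]
    [Mono j] {t : T ⟶ H} (ht : AGF.IsMaxTorus t) (t₀ : T₀ ⟶ H) [IsMonHom t₀] (h₀ : AGF.IsMaxTorus (t₀ ≫ j)) :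
    AGF.IsMaxTorus (t ≫ j) := by
  haveI := ht.1; haveI := ht.2.1
  obtain ⟨g, e, he⟩ := Borel.exists_maxTorus_conj_any (isMaxTorus_of_comp t₀ j h₀) ht
  have hc : e.hom ≫ t ≫ j = AGF.conjBy (g ≫ j) (t₀ ≫ j) := by
    rw [reassoc_of% he, Borel.conjBy_comp]
  have h := Borel.isMaxTorus_conjBy h₀ (g ≫ j)
  rw [← hc] at h
  haveI := h.1
  haveI : IsMonHom e.hom := isMonHom_of_mono e.hom (t ≫ j) (e.hom ≫ t ≫ j) rfl
  haveI : IsMonHom e.inv := inferInstance
  refine ⟨inferInstance, inferInstance, ht.2.2.1, fun T' _ a _ _ f hT' hf => ?_⟩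
  haveI : IsIso (e.hom ≫ f) := h.2.2.2 T' a (e.hom ≫ f) hT' (by rw [Category.assoc, hf])
  exact IsIso.of_isIso_comp_left e.hom f

/-- **transitivity of subgroups of type (R)** -/
theorem isTypeR_comp_iff {G H K : Over S} [GrpObj G] [GrpObj H] [GrpObj K] (hG : Red.IsReductive G) (i : H ⟶ G)
    (hH : RedSub.IsTypeR i) (k : K ⟶ H) [IsMonHom k] : RedSub.IsTypeR k ↔ RedSub.IsTypeR (k ≫ i) := by
  haveI := hH.1.1; haveI := hH.1.2; haveI := hH.2.1; haveI := hH.2.2.1
  haveI := hG.1
  haveI : Mono i := Over.mono_of_mono_left i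
  haveI : IsSeparated G.hom := inferInstance
  have himm : IsImmersion k.left ↔ IsImmersion (k ≫ i).left := by
    constructor
    · intro h; haveI := h; rw [Over.comp_left]; infer_instance
    · intro h
      haveI : IsImmersion (k.left ≫ i.left) := by rw [← Over.comp_left]; exact h
      exact IsImmersion.of_comp k.left i.left
  have hmap : ∀ s : S, (Over.pullback (Red.geomPt s)).map k ≫ (Over.pullback (Red.geomPt s)).map i =
      (Over.pullback (Red.geomPt s)).map (k ≫ i) := fun s => ((Over.pullback _).map_comp k i).symm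
  constructor
  · rintro ⟨⟨-, hki⟩, hs, hq, hc, ht⟩
    refine ⟨⟨inferInstance, himm.1 hki⟩, hs, hq, hc, fun s => ?_⟩
    obtain ⟨T, gT, t, htm, htmax⟩ := ht s
    obtain ⟨T₀, gT₀, t₀, ht₀m, ht₀⟩ := hH.2.2.2.2 s
    haveI := htm; haveI := ht₀m
    haveI : IsMonHom ((Over.pullback (Red.geomPt s)).map i) := Groth.L25.MonoClosed.isMonHom_pullbackMap _ _
    haveI : Mono ((Over.pullback (Red.geomPt s)).map i) := Functor.map_mono _ _
    haveI : Smooth (Red.geomFibre s H).hom := inferInstanceAs (Smooth (pullback.snd H.hom (Red.geomPt s)))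
    haveI : QuasiCompact (Red.geomFibre s H).hom := inferInstanceAs (QuasiCompact (pullback.snd H.hom (Red.geomPt s)))
    refine ⟨T, gT, t, htm, Borel.isMaximalTorus_of_isMaxTorus ?_⟩
    rw [← hmap, ← Category.assoc]
    exact isMaxTorus_comp_of_exists _ (Borel.isMaxTorus_of_isMaximalTorus htmax) t₀
      (Borel.isMaxTorus_of_isMaximalTorus ht₀)
  · rintro ⟨⟨-, hki⟩, hs, hq, hc, ht⟩
    refine ⟨⟨inferInstance, himm.2 hki⟩, hs, hq, hc, fun s => ?_⟩
    obtain ⟨T, gT, t, htm, htmax⟩ := ht s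
    haveI := htm
    haveI : IsMonHom ((Over.pullback (Red.geomPt s)).map i) := Groth.L25.MonoClosed.isMonHom_pullbackMap _ _
    haveI : IsMonHom ((Over.pullback (Red.geomPt s)).map k) := Groth.L25.MonoClosed.isMonHom_pullbackMap _ _
    haveI : Mono ((Over.pullback (Red.geomPt s)).map i) := Functor.map_mono _ _
    have h := Borel.isMaxTorus_of_isMaximalTorus htmax
    rw [← hmap, ← Category.assoc] at h
    exact ⟨T, gT, t, htm, Borel.isMaximalTorus_of_isMaxTorus (isMaxTorus_of_comp _ _ h)⟩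

end Groth.L08.TorusWeights
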